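import Cfsg.Agent.Lib.ElevenPairs.Defs
import Cfsg.Agent.Lib.J1Aut.Aut
import Cfsg.Agent.Lib.J1.Order
import Cfsg.Agent.Lib.Forms.DicksonShapes
import Cfsg.Agent.S2131

/-!
# The subgroups of order eleven in the first Janko group

Everything follows from the order, the element orders, the involution centraliser and the inner automorphisms.
-/

set_option autoImplicit false
set_option linter.unusedSectionVars false
set_option linter.style.haveILetI false

namespace Cfsg.Agent.ElevenPairs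

open Subgroup

universe u

theorem alt_inverter : ∀ f : ↥(alternatingGroup (Fin 5)), f ^ 5 = 1 → f ≠ 1 →
    ∃ v : ↥(alternatingGroup (Fin 5)), v * v = 1 ∧ v * f * v⁻¹ = f⁻¹ := by decide +kernel

theorem alt_centralizer : ∀ f g : ↥(alternatingGroup (Fin 5)), f ^ 5 = 1 → f ≠ 1 → g * f = f * g →
    g = 1 ∨ g = f ∨ g = f ^ 2 ∨ g = f ^ 3 ∨ g = f ^ 4 := by decide +kernel

theorem alt_normalizer : ∀ f g : ↥(alternatingGroup (Fin 5)), f ^ 5 = 1 → f ≠ 1 →
    g * f * g⁻¹ ≠ f ^ 2 ∧ g * f * g⁻¹ ≠ f ^ 3 := by decide +kernel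

theorem alt_invol_conj : ∀ a b : ↥(alternatingGroup (Fin 5)), a * a = 1 → a ≠ 1 → b * b = 1 → b ≠ 1 →
    ∃ c : ↥(alternatingGroup (Fin 5)), c * a * c⁻¹ = b := by decide +kernel

theorem alt_invol_centralizer : ∀ b : ↥(alternatingGroup (Fin 5)), b * b = 1 → b ≠ 1 →
    (Finset.univ.filter fun a => a * b * a⁻¹ = b).card = 4 := by decide +kernel

theorem zmodTwo_pow : ∀ b : Multiplicative (ZMod 2), b ^ 5 = 1 → b = 1 := by decide

theorem zmodTwo_sq : ∀ b : Multiplicative (ZMod 2), b * b = 1 := by decide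

theorem alt_center : ∀ g : ↥(alternatingGroup (Fin 5)), (∀ h, g * h = h * g) → g = 1 := by decide +kernel

theorem zmodTwo_cases : ∀ b c : Multiplicative (ZMod 2), c ≠ 1 → b = 1 ∨ b = c := by decide

variable {X : Type u} [Group X] [Finite X]

theorem IsJ.simple (h : IsJ X) : IsSimpleGroup X := by
  obtain ⟨e⟩ := h
  haveI := Lib.J1.Order.isSimpleGroup_J1
  exact e.isSimpleGroup

theorem IsJ.card (h : IsJ X) : Nat.card X = 175560 := by
  obtain ⟨e⟩ := h
  rw [Nat.card_congr e.toEquiv, Lib.J1.Order.natCard_J1]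

/-- Simplicity and order. -/
theorem IsJ.facts (h : IsJ X) : IsSimpleGroup X ∧ Nat.card X = 175560 := ⟨h.simple, h.card⟩

theorem IsJ.orderOf_mem (h : IsJ X) (x : X) :
    orderOf x ∈ ({1, 2, 3, 5, 6, 7, 10, 11, 15, 19} : Set ℕ) := by
  obtain ⟨e⟩ := h
  rw [← e.orderOf_eq x]
  exact Lib.J1.Spectrum.orderOf_mem _

/-- Every automorphism is inner. -/
theorem IsJ.aut_inner (h : IsJ X) (α : MulAut X) : ∃ g : X, MulAut.conj g = α := by
  obtain ⟨e⟩ := h
  obtain ⟨g, hg⟩ := Lib.J1Aut.Aut.aut_inner ((e.symm.trans α).trans e)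
  refine ⟨e.symm g, MulEquiv.ext fun x => e.injective ?_⟩
  have := congrArg (fun φ : MulAut Cfsg.Spor.J1 => φ (e x)) hg
  simp only [MulAut.conj_apply, MulEquiv.trans_apply, e.symm_apply_apply] at this
  rw [MulAut.conj_apply, map_mul, map_mul, map_inv, e.apply_symm_apply, this]

/-- One class of involutions. -/
theorem IsJ.isConj (h : IsJ X) {s t : X} (hs : orderOf s = 2) (ht : orderOf t = 2) : IsConj s t := by
  obtain ⟨e⟩ := h
  have key : ∀ x : X, orderOf x = 2 → IsConj (e x) Lib.J1Aut.Aut.invol := by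
    intro x hx
    rw [← e.orderOf_eq x] at hx
    obtain ⟨j, hj, hjx⟩ := Lib.J1Aut.Aut.exists_index (x := e x) (by rw [← hx, pow_orderOf_eq_one])
      (fun h1 => by simp [h1] at hx)
    obtain ⟨u, hu⟩ := Lib.J1Aut.Aut.exists_isAt j hj
    exact (isConj_iff.2 ⟨u, Lib.J1Aut.Aut.ext_isAt hu hjx⟩).symm
  obtain ⟨g, hg⟩ := isConj_iff.1 ((key s hs).trans (key t ht).symm)
  exact isConj_iff.2 ⟨e.symm g, e.injective (by rw [map_mul, map_mul, map_inv, e.apply_symm_apply, hg])⟩

/-- The involution centralisers. -/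
theorem IsJ.centralizer_equiv (h : IsJ X) {t : X} (ht : orderOf t = 2) :
    Nonempty (↥(centralizer ({t} : Set X)) ≃* Multiplicative (ZMod 2) × ↥(alternatingGroup (Fin 5))) := by
  obtain ⟨t₀, ht₀, ⟨e₀⟩⟩ := S2131.result
  have hh := h
  obtain ⟨e⟩ := hh
  obtain ⟨g, hg⟩ := isConj_iff.1 (h.isConj ht (t := e.symm t₀) (by rw [e.symm.orderOf_eq, ht₀]))
  let ψ : X ≃* Cfsg.Spor.J1 := (MulAut.conj g).trans e
  have hψ : ψ t = t₀ := by
    show e (g * t * g⁻¹) = t₀
    rw [hg, e.apply_symm_apply]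
  have hmap : (centralizer ({t} : Set X)).map ψ.toMonoidHom = centralizer ({t₀} : Set Cfsg.Spor.J1) := by
    ext y
    rw [Subgroup.mem_map_equiv, mem_centralizer_singleton_iff, mem_centralizer_singleton_iff]
    rw [← ψ.injective.eq_iff, map_mul, map_mul, ψ.apply_symm_apply, hψ]
  exact ⟨((ψ.subgroupMap _).trans (MulEquiv.subgroupCongr hmap)).trans e₀⟩

theorem IsJ.card_centralizer (h : IsJ X) {t : X} (ht : orderOf t = 2) :
    Nat.card ↥(centralizer ({t} : Set X)) = 120 := by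
  obtain ⟨e⟩ := h.centralizer_equiv ht
  rw [Nat.card_congr e.toEquiv, Nat.card_prod, nat_card_alternatingGroup,
    Nat.card_congr Multiplicative.toAdd, Nat.card_zmod, Nat.card_eq_fintype_card, Fintype.card_fin]
  decide

section Eleven

variable {Q R : Subgroup X}

theorem orderOf_eleven (hQ : Nat.card Q = 11) {x : X} (hx : x ∈ Q) (hx1 : x ≠ 1) : orderOf x = 11 := by
  have h : orderOf x ∣ 11 := hQ ▸ orderOf_dvd_natCard Q hx
  exact ((Nat.dvd_prime (by norm_num)).1 h).resolve_left (fun e => hx1 (orderOf_eq_one_iff.1 e))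

theorem exists_ne_one (hQ : Nat.card Q = 11) : ∃ x ∈ Q, x ≠ 1 := by
  have hne : Q ≠ ⊥ := fun e => by rw [e, card_bot] at hQ; omega
  obtain ⟨x, hx⟩ := Subgroup.ne_bot_iff_exists_ne_one.1 hne
  exact ⟨x, x.2, fun e => hx (Subtype.ext e)⟩

theorem IsJ.not_sq_dvd (h : IsJ X) : ¬ 11 ^ 2 ∣ Nat.card X := by rw [h.card]; norm_num

theorem IsJ.exists_sylow (h : IsJ X) (hQ : Nat.card Q = 11) :
    ∃ P : Sylow 11 X, (P : Subgroup X) = Q :=
  haveI : Fact (Nat.Prime 11) := ⟨by norm_num⟩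
  Forms.DicksonShapes.exists_sylow h.not_sq_dvd Q hQ

/-- A subgroup of order eleven is self-centralising. -/
theorem IsJ.centralizer_eleven (h : IsJ X) (hQ : Nat.card Q = 11) : centralizer (Q : Set X) = Q := by
  haveI : Fact (Nat.Prime 11) := ⟨by norm_num⟩
  obtain ⟨P, hP⟩ := h.exists_sylow hQ
  obtain ⟨x, hxQ, hx1⟩ := exists_ne_one hQ
  refine le_antisymm ?_ ?_
  · have hpg : IsPGroup 11 ↥(centralizer (Q : Set X)) := by
      intro y
      refine ⟨1, ?_⟩
      rw [pow_one, ← orderOf_dvd_iff_pow_eq_one, ← Subgroup.orderOf_coe]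
      have hc : Commute x (y : X) := mem_centralizer_iff.1 y.2 x hxQ
      rcases eq_or_ne (orderOf (y : X)) 1 with e | e
      · rw [e]; exact one_dvd _
      obtain ⟨p, hp, hpd⟩ := Nat.exists_prime_and_dvd e
      have hp11 : ∀ q : ℕ, q.Prime → q ∣ orderOf (y : X) → q = 11 := by
        intro q hq hqd
        by_contra hq11
        have hyq : orderOf ((y : X) ^ (orderOf (y : X) / q)) = q :=
          orderOf_pow_orderOf_div (orderOf_pos _).ne' hqd
        have hco : Nat.Coprime (orderOf x) (orderOf ((y : X) ^ (orderOf (y : X) / q))) := by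
          rw [orderOf_eleven hQ hxQ hx1, hyq]
          exact (Nat.coprime_primes (by norm_num) hq).2 (Ne.symm hq11)
        have := h.orderOf_mem (x * (y : X) ^ (orderOf (y : X) / q))
        rw [(hc.pow_right _).orderOf_mul_eq_mul_orderOf_of_coprime hco, orderOf_eleven hQ hxQ hx1, hyq] at this
        simp only [Set.mem_insert_iff, Set.mem_singleton_iff] at this
        have := hq.two_le
        omega
      obtain rfl := hp11 p hp hpd
      have := h.orderOf_mem (y : X)
      simp only [Set.mem_insert_iff, Set.mem_singleton_iff] at this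
      rcases this with e' | e' | e' | e' | e' | e' | e' | e' | e' | e' <;>
        first | exact dvd_of_eq e' | (rw [e'] at hpd; norm_num at hpd)
    have hQC : Q ≤ centralizer (Q : Set X) := by
      haveI : IsCyclic ↥Q := isCyclic_of_prime_card hQ
      exact le_centralizer Q
    exact ((P.3 hpg (hP ▸ hQC)).trans hP).le
  · haveI : IsCyclic ↥Q := isCyclic_of_prime_card hQ
    exact le_centralizer Q

theorem IsJ.commute_mem (h : IsJ X) (hQ : Nat.card Q = 11) {x g : X} (hx : x ∈ Q) (hx1 : x ≠ 1)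
    (hg : Commute g x) : g ∈ Q := by
  rw [← h.centralizer_eleven hQ, mem_centralizer_iff]
  intro y hy
  have hgen : zpowers x = Q := eq_of_le_of_card_ge (zpowers_le.2 hx)
    (by rw [Nat.card_zpowers, orderOf_eleven hQ hx hx1, hQ])
  obtain ⟨i, rfl⟩ := mem_zpowers_iff.1 (hgen ▸ hy : y ∈ zpowers x)
  exact ((hg.zpow_right i).eq).symm

/-- The normaliser has order 110. -/
theorem IsJ.card_normalizer (h : IsJ X) (hQ : Nat.card Q = 11) :
    Nat.card ↥(normalizer (Q : Set X)) = 110 := by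
  haveI : Fact (Nat.Prime 11) := ⟨by norm_num⟩
  obtain ⟨P, rfl⟩ := h.exists_sylow hQ
  set N := normalizer ((P : Subgroup X) : Set X)
  set φ := normalizerMonoidHom (P : Subgroup X)
  have hker : Nat.card φ.ker = 11 := by
    rw [normalizerMonoidHom_ker, h.centralizer_eleven hQ,
      Nat.card_congr (subgroupOfEquivOfLe le_normalizer).toEquiv, hQ]
  haveI : IsCyclic ↥(P : Subgroup X) := isCyclic_of_prime_card hQ
  have hr : Nat.card φ.range ∣ 10 := by
    have := card_subgroup_dvd_card φ.range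
    rwa [IsCyclic.card_mulAut, hQ, Nat.totient_prime (by norm_num : Nat.Prime 11)] at this
  have hN : Nat.card N = 11 * Nat.card φ.range := by
    rw [← φ.ker.card_mul_index, hker, index_ker]
  have h1 := N.card_mul_index
  have h2 : N.index % 11 = 1 := by
    rw [show N.index = Nat.card (Sylow 11 X) from (P.card_eq_index_normalizer).symm]
    exact card_sylow_modEq_one 11 X
  rw [hN, h.card] at h1
  have : ∀ e ≤ 10, e ∣ 10 → e = 1 ∨ e = 2 ∨ e = 5 ∨ e = 10 := by decide
  rcases this _ (Nat.le_of_dvd (by norm_num) hr) hr with e | e | e | e <;> rw [e] at h1 hN <;> omega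

/-- An involution normalising a subgroup of order eleven inverts it. -/
theorem IsJ.inverts (h : IsJ X) {t : X} (ht : orderOf t = 2) (hQ : Nat.card Q = 11)
    (htQ : t ∈ normalizer (Q : Set X)) : ∀ x ∈ Q, t * x * t⁻¹ = x⁻¹ := by
  intro x hx
  by_cases hx1 : x = 1
  · simp [hx1]
  have ht2 : t * t = 1 := by rw [← sq, ← ht, pow_orderOf_eq_one]
  set y := t * x * t⁻¹ with hy
  have hyQ : y ∈ Q := (mem_normalizer_iff.1 htQ x).1 hx
  have hgen : zpowers x = Q := eq_of_le_of_card_ge (zpowers_le.2 hx)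
    (by rw [Nat.card_zpowers, orderOf_eleven hQ hx hx1, hQ])
  obtain ⟨i, hi⟩ := mem_zpowers_iff.1 (hgen ▸ hyQ : y ∈ zpowers x)
  have hii : x ^ (i * i) = x := by
    rw [zpow_mul, hi, hy, conj_zpow, hi, hy]
    calc t * (t * x * t⁻¹) * t⁻¹ = t * t * x * (t * t)⁻¹ := by group
      _ = x := by rw [ht2]; group
  have hdvd : (11 : ℤ) ∣ (i - 1) * (i + 1) := by
    rw [show (i - 1) * (i + 1) = i * i - 1 by ring,
      show (11 : ℤ) = ((orderOf x : ℕ) : ℤ) by rw [orderOf_eleven hQ hx hx1]; rfl, orderOf_dvd_iff_zpow_eq_one,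
      zpow_sub, hii, zpow_one, mul_inv_cancel]
  have hcast : ∀ j : ℤ, (11 : ℤ) ∣ j → x ^ j = 1 := fun j hj => by
    rw [← orderOf_dvd_iff_zpow_eq_one, orderOf_eleven hQ hx hx1]; exact hj
  rcases Int.Prime.dvd_mul' (by norm_num : Nat.Prime 11) hdvd with h' | h'
  · exfalso
    have hcomm : Commute t x := by
      have h1 := hcast _ h'
      rw [zpow_sub, hi, zpow_one, mul_inv_eq_one, hy, mul_inv_eq_iff_eq_mul] at h1
      exact h1
    have h2 : orderOf t ∣ 11 := hQ ▸ orderOf_dvd_natCard Q (h.commute_mem hQ hx hx1 hcomm)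
    rw [ht] at h2
    omega
  · have h1 := hcast _ h'
    rw [zpow_add, hi, zpow_one] at h1
    exact eq_inv_of_mul_eq_one_left h1

/-- Some element of order five of the centraliser of `t` normalises `Q`. -/
theorem IsJ.exists_five (h : IsJ X) {t : X} (ht : orderOf t = 2) (hQ : Nat.card Q = 11)
    (htQ : t ∈ normalizer (Q : Set X)) :
    ∃ f : X, orderOf f = 5 ∧ Commute f t ∧ f ∈ normalizer (Q : Set X) := by
  haveI : Fact (Nat.Prime 5) := ⟨Nat.prime_five⟩
  haveI : Fact (Nat.Prime 2) := ⟨Nat.prime_two⟩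
  set N := normalizer (Q : Set X)
  have hN : Nat.card N = 110 := h.card_normalizer hQ
  set tN : ↥N := ⟨t, htQ⟩
  have hodd : ¬ 2 ∣ Nat.card (Sylow 5 ↥N) := by
    obtain ⟨S⟩ := (inferInstance : Nonempty (Sylow 5 ↥N))
    have h1 : Nat.card (Sylow 5 ↥N) % 5 = 1 := card_sylow_modEq_one 5 ↥N
    have hS : Nat.card ↥(S : Subgroup ↥N) = 5 := by
      obtain ⟨k, hk⟩ := IsPGroup.iff_card.1 S.2
      have hd := hk ▸ card_subgroup_dvd_card (S : Subgroup ↥N)
      have h5 : (5 : ℕ) ∣ 5 ^ k := hk ▸ S.dvd_card_of_dvd_card (by rw [hN]; norm_num)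
      rw [hN] at hd
      have hk2 : k < 2 := by
        by_contra hk1
        exact absurd ((pow_dvd_pow 5 (show 2 ≤ k by omega)).trans hd) (by norm_num)
      interval_cases k
      · norm_num at h5
      · rw [hk]; norm_num
    have h2 : Nat.card (Sylow 5 ↥N) ∣ 22 := by
      have h3 := S.card_dvd_index
      have h4 := (S : Subgroup ↥N).card_mul_index
      rw [hS, hN] at h4
      rwa [show (S : Subgroup ↥N).index = 22 by omega] at h3
    intro h5
    have := Nat.le_of_dvd (by norm_num) h2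
    interval_cases hc : Nat.card (Sylow 5 ↥N) <;> omega
  have hT : IsPGroup 2 ↥(zpowers tN) := IsPGroup.of_card (n := 1) (by
    rw [Nat.card_zpowers, pow_one, ← Subgroup.orderOf_coe]; exact ht)
  obtain ⟨S, hS⟩ := hT.nonempty_fixed_point_of_prime_not_dvd_card (Sylow 5 ↥N) hodd
  have hS' : tN • S = S := hS ⟨tN, mem_zpowers tN⟩
  obtain ⟨f, hf⟩ := exists_prime_orderOf_dvd_card' (G := ↥(S : Subgroup ↥N)) 5 (by
    refine (S.dvd_card_of_dvd_card ?_)
    rw [hN]; norm_num)
  rw [← Subgroup.orderOf_coe, ← Subgroup.orderOf_coe] at hf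
  set g : X := ((f : ↥N) : X)
  have hgS : tN * (f : ↥N) * tN⁻¹ ∈ (S : Subgroup ↥N) :=
    Sylow.smul_eq_iff_mem_normalizer.1 hS' |> fun hm => (mem_normalizer_iff.1 hm _).1 f.2
  refine ⟨g, hf, ?_, (f : ↥N).2⟩
  -- `t g t⁻¹ g⁻¹` centralises `Q` and lies in a group of order prime to eleven
  set c : ↥N := tN * (f : ↥N) * tN⁻¹ * (f : ↥N)⁻¹ with hc
  have hcS : c ∈ (S : Subgroup ↥N) := mul_mem hgS (inv_mem f.2)
  have hcQ : (c : X) ∈ Q := by
    rw [← h.centralizer_eleven hQ, mem_centralizer_iff]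
    intro x hx
    have hinv := h.inverts ht hQ htQ
    set y := g⁻¹ * x * g with hy
    have hyQ : y ∈ Q := ((mem_normalizer_iff''.1 (f : ↥N).2) x).1 hx
    have e1 : g⁻¹ * x⁻¹ * g = y⁻¹ := by rw [hy]; group
    have e2 : (c : X) = t * g * t⁻¹ * g⁻¹ := rfl
    rw [e2, eq_comm, ← mul_inv_eq_iff_eq_mul]
    calc t * g * t⁻¹ * g⁻¹ * x * (t * g * t⁻¹ * g⁻¹)⁻¹
        = t * (g * (t⁻¹ * y * t⁻¹⁻¹) * g⁻¹) * t⁻¹ := by rw [hy]; group
      _ = t * (g * y⁻¹ * g⁻¹) * t⁻¹ := by
          rw [show t⁻¹ = t from inv_eq_of_mul_eq_one_right (by rw [← sq, ← ht, pow_orderOf_eq_one]), hinv y hyQ]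
      _ = x := by
          rw [← e1, show g * (g⁻¹ * x⁻¹ * g) * g⁻¹ = x⁻¹ by group, hinv _ (inv_mem hx), inv_inv]
  have h5 : orderOf (c : X) ∣ 5 ^ 1 := by
    obtain ⟨k, hk⟩ := IsPGroup.iff_card.1 S.2
    have hk1 : k ≤ 1 := by
      by_contra hk1
      have := (hk ▸ card_subgroup_dvd_card (S : Subgroup ↥N) : 5 ^ k ∣ Nat.card ↥N)
      rw [hN] at this
      exact absurd ((pow_dvd_pow 5 (show 2 ≤ k by omega)).trans this) (by norm_num)
    rw [Subgroup.orderOf_coe]
    exact (orderOf_dvd_natCard _ hcS).trans (hk ▸ pow_dvd_pow 5 hk1)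
  have h11 : orderOf (c : X) ∣ 11 := hQ ▸ orderOf_dvd_natCard Q hcQ
  have h1 : t * g * t⁻¹ * g⁻¹ = 1 :=
    orderOf_eq_one_iff.1 (Nat.eq_one_of_dvd_coprimes (by norm_num : Nat.Coprime (5 ^ 1) 11) h5 h11)
  rw [mul_inv_eq_one, mul_inv_eq_iff_eq_mul] at h1
  exact (show Commute t g from h1).symm

/-- The elements of `C(t)` normalising `Q`. -/
theorem IsJ.mem_stab (h : IsJ X) {t f g : X} (ht : orderOf t = 2) (hQ : Nat.card Q = 11)
    (htQ : t ∈ normalizer (Q : Set X)) (hf : orderOf f = 5) (hft : Commute f t)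
    (hfQ : f ∈ normalizer (Q : Set X)) (hgt : Commute g t) (hgQ : g ∈ normalizer (Q : Set X)) :
    g ∈ zpowers (t * f) := by
  set S := normalizer (Q : Set X) ⊓ centralizer ({t} : Set X)
  have hS : Nat.card S ∣ 10 := by
    have hinf : S ⊓ Q = ⊥ := by
      rw [eq_bot_iff]
      rintro x ⟨⟨-, hxt⟩, hxQ⟩
      have h1 := h.inverts ht hQ htQ x hxQ
      rw [← (mem_centralizer_singleton_iff.1 hxt), mul_inv_cancel_right] at h1
      by_contra hx1
      have hx2 : orderOf x ∣ 2 := orderOf_dvd_of_pow_eq_one (by rw [sq]; nth_rewrite 1 [h1]; simp)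
      rw [orderOf_eleven hQ hxQ (fun e => hx1 (mem_bot.2 e))] at hx2
      omega
    have hco : Nat.Coprime (Nat.card S) 11 := by
      refine ((Nat.Prime.coprime_iff_not_dvd (by norm_num)).2 fun hd => ?_).symm
      haveI : Fact (Nat.Prime 11) := ⟨by norm_num⟩
      obtain ⟨x, hx⟩ := exists_prime_orderOf_dvd_card' (G := ↥S) 11 hd
      rw [← Subgroup.orderOf_coe] at hx
      obtain ⟨P, hP⟩ := h.exists_sylow hQ
      have hz : zpowers (x : X) ≤ normalizer ((P : Subgroup X) : Set X) :=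
        zpowers_le.2 (hP.symm ▸ x.2.1)
      have hle : zpowers (x : X) ≤ (P : Subgroup X) := by
        have hp : IsPGroup 11 ↥(zpowers (x : X)) :=
          IsPGroup.of_card (n := 1) (by rw [Nat.card_zpowers, hx, pow_one])
        rw [← inf_eq_left, ← hp.inf_normalizer_sylow P, inf_eq_left]
        exact hz
      have := mem_bot.1 (hinf.le ⟨x.2, hP ▸ hle (mem_zpowers _)⟩)
      rw [this, orderOf_one] at hx
      omega
    have hd := card_dvd_of_le (inf_le_left : S ≤ normalizer (Q : Set X))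
    rw [h.card_normalizer hQ, show (110 : ℕ) = 11 * 10 by norm_num] at hd
    exact hco.dvd_of_dvd_mul_left hd
  have hle : zpowers (t * f) ≤ S := zpowers_le.2 ⟨mul_mem htQ hfQ, mem_centralizer_singleton_iff.2
    ((Commute.refl t).mul_left hft).eq⟩
  have hc : Nat.card (zpowers (t * f)) = 10 := by
    rw [Nat.card_zpowers, hft.symm.orderOf_mul_eq_mul_orderOf_of_coprime (by rw [ht, hf]; norm_num), ht, hf]
  rw [eq_of_le_of_card_ge hle (hc.symm ▸ Nat.le_of_dvd (by norm_num) hS)]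
  exact ⟨hgQ, mem_centralizer_singleton_iff.2 hgt.eq⟩

/-- `C(t) ∩ C(f) = <t f>`. -/
theorem IsJ.centralizer_five (h : IsJ X) {t f c : X} (ht : orderOf t = 2) (hf : orderOf f = 5)
    (hft : Commute f t) (hct : Commute c t) (hcf : Commute c f) : c ∈ zpowers (t * f) := by
  obtain ⟨e⟩ := h.centralizer_equiv ht
  set T : ↥(centralizer ({t} : Set X)) := ⟨t, mem_centralizer_singleton_iff.2 rfl⟩
  set F : ↥(centralizer ({t} : Set X)) := ⟨f, mem_centralizer_singleton_iff.2 hft.eq⟩
  set C : ↥(centralizer ({t} : Set X)) := ⟨c, mem_centralizer_singleton_iff.2 hct.eq⟩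
  have hT2 : (e T).2 = 1 := alt_center _ fun g => by
    have hcomm : Commute T (e.symm (1, g)) :=
      Subtype.ext (mem_centralizer_singleton_iff.1 (e.symm (1, g)).2).symm
    simpa using congrArg Prod.snd (hcomm.map e).eq
  have hT1 : (e T).1 ≠ 1 := fun h1 => by
    have : T = 1 := e.injective (by rw [map_one]; exact Prod.ext h1 hT2)
    have h2 := congrArg (orderOf ∘ Subtype.val) this
    simp [T, ht] at h2
  have hF5 : (e F) ^ 5 = 1 := by
    rw [← map_pow, show F ^ 5 = 1 from Subtype.ext (show f ^ 5 = 1 by rw [← hf, pow_orderOf_eq_one]), map_one]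
  have hF1 : (e F).1 = 1 := zmodTwo_pow _ (congrArg Prod.fst hF5)
  have hF2 : (e F).2 ≠ 1 := fun h2 => by
    have : F = 1 := e.injective (by rw [map_one]; exact Prod.ext hF1 h2)
    have h3 := congrArg (orderOf ∘ Subtype.val) this
    simp [F, hf] at h3
  have hCF : (e C).2 * (e F).2 = (e F).2 * (e C).2 :=
    congrArg Prod.snd ((show Commute C F from Subtype.ext hcf.eq).map e).eq
  have hmt : t ∈ zpowers (t * f) := by
    refine mem_zpowers_iff.2 ⟨5, ?_⟩
    rw [show (5 : ℤ) = ((5 : ℕ) : ℤ) from rfl, zpow_natCast, hft.symm.mul_pow,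
      show f ^ 5 = 1 by rw [← hf, pow_orderOf_eq_one],
      show t ^ 5 = t by rw [show 5 = 2 * 2 + 1 from rfl, pow_succ, pow_mul, ← ht, pow_orderOf_eq_one]; simp,
      mul_one]
  have hmf : f ∈ zpowers (t * f) := by
    have h := mul_mem (inv_mem hmt) (mem_zpowers (t * f))
    rwa [inv_mul_cancel_left] at h
  obtain ⟨i, hi⟩ : ∃ i : ℕ, (e C).2 = (e F).2 ^ i := by
    rcases alt_centralizer _ _ (congrArg Prod.snd hF5) hF2 hCF with r | r | r | r | r
    · exact ⟨0, by rw [r, pow_zero]⟩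
    · exact ⟨1, by rw [r, pow_one]⟩
    · exact ⟨2, r⟩
    · exact ⟨3, r⟩
    · exact ⟨4, r⟩
  rcases zmodTwo_cases (e C).1 (e T).1 hT1 with r | r
  · have : C = F ^ i := e.injective (Prod.ext (by rw [map_pow, Prod.pow_fst, hF1, one_pow, r])
      (by rw [map_pow, Prod.pow_snd, hi]))
    have h2 : c = f ^ i := congrArg Subtype.val this
    exact h2 ▸ pow_mem hmf i
  · have : C = T * F ^ i := e.injective (Prod.ext
      (by rw [map_mul, map_pow, Prod.fst_mul, Prod.pow_fst, hF1, one_pow, mul_one, r])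
      (by rw [map_mul, map_pow, Prod.snd_mul, Prod.pow_snd, hT2, one_mul, hi]))
    have h2 : c = t * f ^ i := congrArg Subtype.val this
    exact h2 ▸ mul_mem hmt (pow_mem hmf i)

/-- An element of `C(t)` normalising `<f>` centralises or inverts `f`. -/
theorem IsJ.normal_five (h : IsJ X) {t f c : X} (ht : orderOf t = 2) (hf : orderOf f = 5)
    (hft : Commute f t) (hct : Commute c t) (hcf : c * f * c⁻¹ ∈ zpowers f) :
    c * f * c⁻¹ = f ∨ c * f * c⁻¹ = f⁻¹ := by
  obtain ⟨e⟩ := h.centralizer_equiv ht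
  set F : ↥(centralizer ({t} : Set X)) := ⟨f, mem_centralizer_singleton_iff.2 hft.eq⟩
  set C : ↥(centralizer ({t} : Set X)) := ⟨c, mem_centralizer_singleton_iff.2 hct.eq⟩
  have hf5 : f ^ 5 = 1 := by rw [← hf, pow_orderOf_eq_one]
  obtain ⟨j, hj⟩ := mem_zpowers_iff.1 hcf
  obtain ⟨i, hi, hif⟩ : ∃ i : ℕ, i < 5 ∧ c * f * c⁻¹ = f ^ i := by
    have hm := Int.emod_lt_of_pos j (show (0 : ℤ) < 5 by norm_num)
    have h0 := Int.emod_nonneg j (show (5 : ℤ) ≠ 0 by norm_num)
    refine ⟨(j % 5).toNat, by omega, ?_⟩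
    rw [← hj, ← zpow_mod_orderOf, hf, ← zpow_natCast, Int.toNat_of_nonneg h0]
    rfl
  have hF5 : (e F) ^ 5 = 1 := by
    rw [← map_pow, show F ^ 5 = 1 from Subtype.ext hf5, map_one]
  have hF1 : (e F).1 = 1 := zmodTwo_pow _ (congrArg Prod.fst hF5)
  have hF2 : (e F).2 ≠ 1 := fun h2 => by
    have : F = 1 := e.injective (by rw [map_one]; exact Prod.ext hF1 h2)
    have h3 := congrArg (orderOf ∘ Subtype.val) this
    simp [F, hf] at h3
  have hE : (e C).2 * (e F).2 * (e C).2⁻¹ = (e F).2 ^ i := by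
    have h1 : C * F * C⁻¹ = F ^ i := Subtype.ext hif
    have h2 := congrArg (fun z => (e z).2) h1
    simpa using h2
  obtain ⟨n2, n3⟩ := alt_normalizer _ (e C).2 (congrArg Prod.snd hF5) hF2
  interval_cases i
  · rw [pow_zero, mul_inv_eq_one] at hE
    exact absurd (mul_left_cancel (hE.trans (mul_one _).symm)) hF2
  · exact Or.inl (by rw [hif, pow_one])
  · exact absurd hE n2
  · exact absurd hE n3
  · exact Or.inr (by rw [hif, eq_inv_iff_mul_eq_one, ← pow_succ, hf5])

/-- Some involution of `C(t)` inverts `f`. -/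
theorem IsJ.exists_inverter (h : IsJ X) {t f : X} (ht : orderOf t = 2) (hf : orderOf f = 5)
    (hft : Commute f t) : ∃ v : X, v * v = 1 ∧ Commute v t ∧ v * f * v⁻¹ = f⁻¹ := by
  obtain ⟨e⟩ := h.centralizer_equiv ht
  set F : ↥(centralizer ({t} : Set X)) := ⟨f, mem_centralizer_singleton_iff.2 hft.eq⟩
  have hF5 : (e F) ^ 5 = 1 := by
    rw [← map_pow, show F ^ 5 = 1 from Subtype.ext (show f ^ 5 = 1 by rw [← hf, pow_orderOf_eq_one]), map_one]
  have hF1 : (e F).1 = 1 := zmodTwo_pow _ (congrArg Prod.fst hF5)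
  have hF2 : (e F).2 ≠ 1 := fun h2 => by
    have : F = 1 := e.injective (by rw [map_one]; exact Prod.ext hF1 h2)
    have h3 := congrArg (orderOf ∘ Subtype.val) this
    simp [F, hf] at h3
  obtain ⟨v, hv2, hvf⟩ := alt_inverter _ (congrArg Prod.snd hF5) hF2
  set V : ↥(centralizer ({t} : Set X)) := e.symm (1, v) with hV
  have h1 : V * V = 1 := by rw [hV, ← map_mul, Prod.mk_mul_mk, one_mul, hv2]; exact map_one _
  have h2 : V * F * V⁻¹ = F⁻¹ := e.injective (by
    rw [hV, map_mul, map_mul, map_inv, map_inv, e.apply_symm_apply]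
    exact Prod.ext (by simp [hF1]) (by simpa using hvf))
  exact ⟨V.1, congrArg Subtype.val h1, mem_centralizer_singleton_iff.1 V.2, congrArg Subtype.val h2⟩

/-- Such an involution moves `Q`. -/
theorem IsJ.inverter_moves (h : IsJ X) {t f v : X} (ht : orderOf t = 2) (hQ : Nat.card Q = 11)
    (htQ : t ∈ normalizer (Q : Set X)) (hf : orderOf f = 5) (hft : Commute f t)
    (hfQ : f ∈ normalizer (Q : Set X)) (hvt : Commute v t) (hvf : v * f * v⁻¹ = f⁻¹) :
    v ∉ normalizer (Q : Set X) := by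
  intro hv
  obtain ⟨i, hi⟩ := mem_zpowers_iff.1 (h.mem_stab ht hQ htQ hf hft hfQ hvt hv)
  have hcomm : Commute v f := hi ▸ ((hft.symm.mul_left (Commute.refl f)).zpow_left i)
  rw [hcomm.eq, mul_inv_cancel_right, eq_inv_iff_mul_eq_one, ← sq] at hvf
  have := Nat.le_of_dvd (by norm_num) (orderOf_dvd_of_pow_eq_one hvf)
  omega

theorem mem_normalizer_map_iff {g x : X} :
    x ∈ normalizer ((Q.map (MulAut.conj g).toMonoidHom : Subgroup X) : Set X) ↔
      g⁻¹ * x * g ∈ normalizer (Q : Set X) := by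
  rw [mem_normalizer_iff, mem_normalizer_iff]
  constructor
  · intro hx y
    have := hx (g * y * g⁻¹)
    simp only [Subgroup.mem_map_equiv, MulAut.conj_symm_apply] at this
    convert this using 2 <;> group
  · intro hx y
    simp only [Subgroup.mem_map_equiv, MulAut.conj_symm_apply]
    convert hx (g⁻¹ * y * g) using 2 <;> group

theorem map_conj_eq_self {g : X} (hg : g ∈ normalizer (Q : Set X)) :
    Q.map (MulAut.conj g).toMonoidHom = Q := by
  ext y
  rw [Subgroup.mem_map_equiv, MulAut.conj_symm_apply, ← mem_normalizer_iff''.1 hg y]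

theorem mem_normalizer_of_map {g : X} (hg : Q.map (MulAut.conj g).toMonoidHom = Q) :
    g ∈ normalizer (Q : Set X) := by
  rw [mem_normalizer_iff]
  intro y
  conv_rhs => rw [← hg, Subgroup.mem_map_equiv, MulAut.conj_symm_apply]
  rw [show g⁻¹ * (g * y * g⁻¹) * g = y by group]

/-- `C(t)` permutes transitively the subgroups of order eleven that `t` normalises. -/
theorem IsJ.transitive (h : IsJ X) {t : X} (ht : orderOf t = 2) (hQ : Nat.card Q = 11)
    (hR : Nat.card R = 11) (htQ : t ∈ normalizer (Q : Set X)) (htR : t ∈ normalizer (R : Set X)) :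
    ∃ c : X, Commute c t ∧ Q.map (MulAut.conj c).toMonoidHom = R := by
  haveI : Fact (Nat.Prime 11) := ⟨by norm_num⟩
  obtain ⟨P, rfl⟩ := h.exists_sylow hQ
  obtain ⟨P', rfl⟩ := h.exists_sylow hR
  obtain ⟨g, hg⟩ := MulAction.exists_smul_eq X P P'
  have hgQ : (P : Subgroup X).map (MulAut.conj g).toMonoidHom = (P' : Subgroup X) := by rw [← hg]; rfl
  have hs : orderOf (g⁻¹ * t * g) = 2 := by
    rw [show g⁻¹ * t * g = MulAut.conj g⁻¹ t by simp, MulEquiv.orderOf_eq, ht]
  have hsN : g⁻¹ * t * g ∈ normalizer ((P : Subgroup X) : Set X) := by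
    rw [← mem_normalizer_map_iff, hgQ]; exact htR
  have ht2 : t⁻¹ = t := inv_eq_of_mul_eq_one_right (by rw [← sq, ← ht, pow_orderOf_eq_one])
  have hq : t * (g⁻¹ * t * g) ∈ (P : Subgroup X) := by
    rw [← h.centralizer_eleven hQ, mem_centralizer_iff]
    intro y hy
    have e1 : g⁻¹ * t * g * y = y⁻¹ * (g⁻¹ * t * g) := mul_inv_eq_iff_eq_mul.1 (h.inverts hs hQ hsN y hy)
    have e2 : t * y⁻¹ = y * t := by
      rw [mul_inv_eq_iff_eq_mul.1 (h.inverts ht hQ htQ _ (inv_mem hy)), inv_inv]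
    calc y * (t * (g⁻¹ * t * g)) = t * y⁻¹ * (g⁻¹ * t * g) := by rw [← mul_assoc y, ← e2]
      _ = t * (g⁻¹ * t * g) * y := by rw [mul_assoc t y⁻¹, ← e1, ← mul_assoc t]
  set q := t * (g⁻¹ * t * g) with hqdef
  set r := q ^ 6
  have hr : r ∈ (P : Subgroup X) := pow_mem hq 6
  have hr2 : r * r = q := by
    rw [← pow_add, show 6 + 6 = 11 + 1 from rfl, pow_succ,
      orderOf_dvd_iff_pow_eq_one.1 (hQ ▸ orderOf_dvd_natCard (P : Subgroup X) hq), one_mul]
  have htr : r⁻¹ * t * r = g⁻¹ * t * g := by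
    have e1 := mul_inv_eq_iff_eq_mul.1 (h.inverts ht hQ htQ r hr)
    rw [← e1, mul_assoc, hr2, hqdef, ← mul_assoc]
    nth_rewrite 1 [← ht2]
    rw [inv_mul_cancel, one_mul]
  refine ⟨g * r⁻¹, ?_, ?_⟩
  · show g * r⁻¹ * t = t * (g * r⁻¹)
    calc g * r⁻¹ * t = g * (r⁻¹ * t * r) * r⁻¹ := by group
      _ = t * (g * r⁻¹) := by rw [htr]; group
  · rw [map_conj_mul]
    rw [show (P : Subgroup X).map (MulAut.conj r⁻¹).toMonoidHom = P from ?_, hgQ]
    exact map_conj_eq_self (inv_mem (le_normalizer hr))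

/-- An element `t f` of order ten fixes only `Q` and its image under the inverter. -/
theorem IsJ.fixed_two (h : IsJ X) {t f v : X} (ht : orderOf t = 2) (hQ : Nat.card Q = 11)
    (htQ : t ∈ normalizer (Q : Set X)) (hf : orderOf f = 5) (hft : Commute f t)
    (hfQ : f ∈ normalizer (Q : Set X)) (hvt : Commute v t) (hvf : v * f * v⁻¹ = f⁻¹)
    (hR : Nat.card R = 11) (htR : t ∈ normalizer (R : Set X)) (hfR : f ∈ normalizer (R : Set X)) :
    R = Q ∨ R = Q.map (MulAut.conj v).toMonoidHom := by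
  obtain ⟨c, hct, hcR⟩ := h.transitive ht hQ hR htQ htR
  have h1 : c⁻¹ * f * c ∈ zpowers (t * f) :=
    h.mem_stab ht hQ htQ hf hft hfQ ((hct.inv_left.mul_left hft).mul_left hct)
      (mem_normalizer_map_iff.1 (hcR ▸ hfR))
  have hcyc : c⁻¹ * f * c ∈ zpowers f := by
    obtain ⟨i, hi⟩ := mem_zpowers_iff.1 h1
    rw [hft.symm.mul_zpow] at hi
    have h5 : (c⁻¹ * f * c) ^ 5 = 1 := by
      rw [orderOf_dvd_iff_pow_eq_one.symm, show c⁻¹ * f * c = MulAut.conj c⁻¹ f by simp,
        MulEquiv.orderOf_eq, hf]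
    have ht5 : (t ^ i) ^ 5 = t ^ i := by
      rw [show 5 = 2 * 2 + 1 from rfl, pow_succ, pow_mul, ← zpow_natCast (t ^ i) 2, zpow_comm, zpow_natCast,
        ← ht, pow_orderOf_eq_one, one_zpow, one_pow, one_mul]
    rw [← hi, ((hft.symm.zpow_zpow i i)).mul_pow, ht5,
      show (f ^ i) ^ 5 = 1 by rw [← zpow_natCast, zpow_comm, zpow_natCast, ← hf, pow_orderOf_eq_one, one_zpow],
      mul_one] at h5
    rw [← hi, h5, one_mul]
    exact zpow_mem (mem_zpowers f) i
  rcases h.normal_five ht hf hft hct.inv_left (by rwa [inv_inv]) with e | e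
  · left
    rw [inv_inv, mul_assoc, inv_mul_eq_iff_eq_mul] at e
    have hc := h.centralizer_five ht hf hft hct (show Commute c f from e.symm)
    rw [← hcR]
    exact map_conj_eq_self (zpowers_le.2 (mul_mem htQ hfQ) hc)
  · right
    rw [inv_inv] at e
    have hvc : Commute (v⁻¹ * c) f := by
      have e1 : v⁻¹ * f * v = f⁻¹ := by
        have := congrArg (fun z => v⁻¹ * z⁻¹ * v) hvf
        rw [show v⁻¹ * (v * f * v⁻¹)⁻¹ * v = f⁻¹ by group, inv_inv] at this
        exact this.symm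
      show v⁻¹ * c * f = f * (v⁻¹ * c)
      have e2 : c * f⁻¹ * c⁻¹ = f := by rw [← e]; group
      calc v⁻¹ * c * f = v⁻¹ * (c * f⁻¹ * c⁻¹)⁻¹ * c := by group
        _ = v⁻¹ * f⁻¹ * v * (v⁻¹ * c) := by rw [e2]; group
        _ = f * (v⁻¹ * c) := by
            rw [show v⁻¹ * f⁻¹ * v = (v⁻¹ * f * v)⁻¹ by group, e1, inv_inv]
    have hc := h.centralizer_five ht hf hft (hvt.inv_left.mul_left hct) hvc
    rw [← hcR, show c = v * (v⁻¹ * c) by group, map_conj_mul,
      map_conj_eq_self (zpowers_le.2 (mul_mem htQ hfQ) hc)]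

/-- An automorphism centralising one subgroup of order eleven and normalising another is trivial. -/
theorem IsJ.aut_eq_one (h : IsJ X) (α : MulAut X) (Q R : Subgroup X) (hQ : Nat.card Q = 11)
    (hR : Nat.card R = 11) (hne : Q ≠ R) (hfix : ∀ x ∈ Q, α x = x)
    (hmap : R.map α.toMonoidHom = R) : α = 1 := by
  haveI : Fact (Nat.Prime 11) := ⟨by norm_num⟩
  obtain ⟨g, rfl⟩ := h.aut_inner α
  have hgQ : g ∈ Q := by
    rw [← h.centralizer_eleven hQ, mem_centralizer_iff]
    intro x hx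
    have := hfix x hx
    rw [MulAut.conj_apply, mul_inv_eq_iff_eq_mul] at this
    exact this.symm
  by_cases hg : g = 1
  · rw [hg, map_one]
  exfalso
  obtain ⟨P, rfl⟩ := h.exists_sylow hR
  have hgen : zpowers g = Q := eq_of_le_of_card_ge (zpowers_le.2 hgQ)
    (by rw [Nat.card_zpowers, orderOf_eleven hQ hgQ hg, hQ])
  have hp : IsPGroup 11 ↥(zpowers g) :=
    IsPGroup.of_card (n := 1) (by rw [Nat.card_zpowers, orderOf_eleven hQ hgQ hg, pow_one])
  have hle : zpowers g ≤ (P : Subgroup X) := by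
    rw [← inf_eq_left, ← hp.inf_normalizer_sylow P, inf_eq_left]
    exact zpowers_le.2 (mem_normalizer_of_map hmap)
  rw [hgen] at hle
  exact hne (eq_of_le_of_card_ge hle (by rw [hQ, hR]))

/-- An automorphism of order ten on `Q` acts with the inverse exponent on the other subgroup it fixes. -/
theorem IsJ.exponent (h : IsJ X) (α : MulAut X) (Q R : Subgroup X) (hQ : Nat.card Q = 11)
    (hR : Nat.card R = 11) (hne : Q ≠ R) (hmQ : Q.map α.toMonoidHom = Q)
    (hmR : R.map α.toMonoidHom = R) (a : ℕ) (ha : ∀ x ∈ Q, α x = x ^ a)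
    (h2 : ¬ a ^ 2 ≡ 1 [MOD 11]) (h5 : ¬ a ^ 5 ≡ 1 [MOD 11]) : ∀ y ∈ R, α y ^ a = y := by
  obtain ⟨g, rfl⟩ := h.aut_inner α
  obtain ⟨x, hxQ, hx1⟩ := exists_ne_one hQ
  have hgQ := mem_normalizer_of_map hmQ
  have hgR := mem_normalizer_of_map hmR
  have hpow : ∀ k : ℕ, g ^ k * x * (g ^ k)⁻¹ = x ^ a ^ k := by
    intro k
    induction k with
    | zero => simp
    | succ k ih =>
      rw [pow_succ', show g * g ^ k * x * (g * g ^ k)⁻¹ = g * (g ^ k * x * (g ^ k)⁻¹) * g⁻¹ by group, ih,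
        ← MulAut.conj_apply, ha _ (pow_mem hxQ _), ← pow_mul, pow_succ]
  have hord : ∀ k, g ^ k = 1 → a ^ k ≡ 1 [MOD 11] := by
    intro k hk
    have := hpow k
    rw [hk, one_mul, inv_one, mul_one] at this
    rw [← orderOf_eleven hQ hxQ hx1, ← pow_eq_pow_iff_modEq, ← this, pow_one]
  have ha11 : a ^ 10 ≡ 1 [MOD 11] := by
    have hna : ¬ 11 ∣ a := fun hd => by
      have := hpow 1
      rw [pow_one, pow_one, orderOf_dvd_iff_pow_eq_one.1 ((orderOf_eleven hQ hxQ hx1) ▸ hd),
        mul_inv_eq_one, mul_eq_left] at this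
      exact hx1 this
    have := Nat.ModEq.pow_totient (n := 11) (x := a)
      ((Nat.Prime.coprime_iff_not_dvd (by norm_num)).2 hna).symm
    rwa [Nat.totient_prime (by norm_num : Nat.Prime 11)] at this
  have hg10 : orderOf g = 10 := by
    have h0 := hord _ (pow_orderOf_eq_one g)
    have := h.orderOf_mem g
    simp only [Set.mem_insert_iff, Set.mem_singleton_iff] at this
    have e10 : ∀ m n, a ^ m ≡ 1 [MOD 11] → a ^ (m * n) ≡ 1 [MOD 11] := fun m n hm => by
      rw [pow_mul]; simpa using hm.pow n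
    have step : ∀ m n, a ^ (m + n) ≡ 1 [MOD 11] → a ^ n ≡ 1 [MOD 11] → a ^ m ≡ 1 [MOD 11] := fun m n e1 e2 => by
      rw [pow_add] at e1
      simpa using ((Nat.ModEq.refl (a ^ m)).mul e2).symm.trans e1
    rcases this with e | e | e | e | e | e | e | e | e | e <;> rw [e] at h0
    · exact absurd (e10 1 2 h0) h2
    · exact absurd h0 h2
    · exact absurd (step 2 10 (by simpa using e10 3 4 h0) ha11) h2
    · exact absurd h0 h5
    · exact absurd (step 2 10 (by simpa using e10 6 2 h0) ha11) h2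
    · exact absurd (step 1 20 (by simpa using e10 7 3 h0) (e10 10 2 ha11) |> (e10 1 2)) h2
    · exact e
    · exact absurd (step 1 10 (by simpa using h0) ha11 |> (e10 1 2)) h2
    · exact absurd (step 5 10 (by simpa using h0) ha11) h5
    · exact absurd (step 9 10 (by simpa using h0) ha11 |> fun h9 => step 8 10 (e10 9 2 h9) ha11 |>
        fun h8 => step 1 8 (by simpa using h9) h8 |> (e10 1 2)) h2
  have hg101 : g ^ 10 = 1 := hg10 ▸ pow_orderOf_eq_one g
  have ht : orderOf (g ^ 5) = 2 := by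
    rw [orderOf_pow' g (by norm_num), hg10]; norm_num
  have hf : orderOf (g ^ 6) = 5 := by
    rw [orderOf_pow' g (by norm_num), hg10]; norm_num
  have hft : Commute (g ^ 6) (g ^ 5) := Commute.pow_pow (Commute.refl g) 6 5
  have htf : g ^ 5 * g ^ 6 = g := by
    rw [← pow_add, show 5 + 6 = 10 + 1 from rfl, pow_succ, hg101, one_mul]
  obtain ⟨v, -, hvt, hvf⟩ := h.exists_inverter ht hf hft
  rcases h.fixed_two ht hQ (pow_mem hgQ _) hf hft (pow_mem hgQ _) hvt hvf hR (pow_mem hgR _)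
    (pow_mem hgR _) with e | e
  · exact absurd e.symm hne
  have hvg : v * g * v⁻¹ = g⁻¹ := by
    conv_lhs => rw [← htf]
    rw [show v * (g ^ 5 * g ^ 6) * v⁻¹ = v * g ^ 5 * v⁻¹ * (v * g ^ 6 * v⁻¹) by group, hvt.eq,
      mul_inv_cancel_right, hvf, eq_inv_iff_mul_eq_one, mul_assoc]
    rw [show (g ^ 6)⁻¹ * g = (g ^ 5)⁻¹ by group, mul_inv_cancel]
  intro y hy
  rw [e] at hy
  obtain ⟨z, hz, rfl⟩ := Subgroup.mem_map.1 hy
  simp only [MulEquiv.coe_toMonoidHom, MulAut.conj_apply]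
  have hz2 : g⁻¹ * z * g ∈ Q := (mem_normalizer_iff''.1 hgQ z).1 hz
  have key : (g⁻¹ * z * g) ^ a = z := by
    rw [← ha _ hz2, MulAut.conj_apply]; group
  have e3 : v * g⁻¹ * v⁻¹ = g := by
    rw [show v * g⁻¹ * v⁻¹ = (v * g * v⁻¹)⁻¹ by group, hvg, inv_inv]
  calc (g * (v * z * v⁻¹) * g⁻¹) ^ a
      = (v * g⁻¹ * v⁻¹ * (v * z * v⁻¹) * (v * g⁻¹ * v⁻¹)⁻¹) ^ a := by rw [e3]
    _ = (v * (g⁻¹ * z * g) * v⁻¹) ^ a := by group
    _ = v * z * v⁻¹ := by rw [conj_pow, key]

/-- Every involution normalises some subgroup of order eleven. -/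
theorem IsJ.exists_normalized (h : IsJ X) {t : X} (ht : orderOf t = 2) :
    ∃ Q : Subgroup X, Nat.card Q = 11 ∧ t ∈ normalizer (Q : Set X) := by
  haveI : Fact (Nat.Prime 11) := ⟨by norm_num⟩
  haveI : Fact (Nat.Prime 2) := ⟨Nat.prime_two⟩
  obtain ⟨x, hx⟩ := exists_prime_orderOf_dvd_card' (G := X) 11 (by rw [h.card]; norm_num)
  have hQ : Nat.card (zpowers x) = 11 := by rw [Nat.card_zpowers, hx]
  obtain ⟨s, hs⟩ := exists_prime_orderOf_dvd_card' (G := ↥(normalizer ((zpowers x : Subgroup X) : Set X))) 2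
    (by rw [h.card_normalizer hQ]; norm_num)
  rw [← Subgroup.orderOf_coe] at hs
  obtain ⟨g, hg⟩ := isConj_iff.1 (h.isConj hs ht)
  refine ⟨(zpowers x).map (MulAut.conj g).toMonoidHom, ?_, mem_normalizer_map_iff.2 ?_⟩
  · rw [Subgroup.card_map_of_injective (MulEquiv.injective _), hQ]
  · rw [← hg, show g⁻¹ * (g * s.1 * g⁻¹) * g = s.1 by group]
    exact s.2

/-- An involution normalises twelve subgroups of order eleven. -/
theorem IsJ.card_normalized (h : IsJ X) {t : X} (ht : orderOf t = 2) :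
    Nat.card {R : Subgroup X // Nat.card R = 11 ∧ t ∈ normalizer (R : Set X)} = 12 := by
  obtain ⟨Q, hQ, htQ⟩ := h.exists_normalized ht
  obtain ⟨f, hf, hft, hfQ⟩ := h.exists_five ht hQ htQ
  set C := centralizer ({t} : Set X)
  set S := (zpowers (t * f)).subgroupOf C
  have hle : zpowers (t * f) ≤ C := zpowers_le.2
    (mem_centralizer_singleton_iff.2 ((Commute.refl t).mul_left hft).eq)
  have hS : Nat.card S = 10 := by
    rw [Nat.card_congr (subgroupOfEquivOfLe hle).toEquiv, Nat.card_zpowers,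
      hft.symm.orderOf_mul_eq_mul_orderOf_of_coprime (by rw [ht, hf]; norm_num), ht, hf]
  have hidx : S.index = 12 := by
    have := S.card_mul_index
    rw [hS, h.card_centralizer ht] at this
    omega
  have hiff : ∀ a b : ↥C, Q.map (MulAut.conj (a : X)).toMonoidHom = Q.map (MulAut.conj (b : X)).toMonoidHom ↔
      a⁻¹ * b ∈ S := by
    intro a b
    rw [mem_subgroupOf, Subgroup.coe_mul, Subgroup.coe_inv]
    constructor
    · intro e
      refine h.mem_stab ht hQ htQ hf hft hfQ ?_ (mem_normalizer_of_map ?_)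
      · exact (show Commute (a : X) t from mem_centralizer_singleton_iff.1 a.2).inv_left.mul_left
          (show Commute (b : X) t from mem_centralizer_singleton_iff.1 b.2)
      · rw [map_conj_mul, ← e, ← map_conj_mul, inv_mul_cancel, map_conj_one]
    · intro e
      conv_rhs => rw [← mul_inv_cancel_left (a : X) (b : X), map_conj_mul,
        map_conj_eq_self (zpowers_le.2 (mul_mem htQ hfQ) e)]
  rw [← hidx, Subgroup.index]
  refine (Nat.card_congr (Equiv.ofBijective
    (Quotient.lift (s := QuotientGroup.leftRel S) (fun a : ↥C =>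
      (⟨Q.map (MulAut.conj (a : X)).toMonoidHom, by
        rw [Subgroup.card_map_of_injective (MulEquiv.injective _), hQ], mem_normalizer_map_iff.2 (by
          rw [show (a : X)⁻¹ * t * a = t from by
            rw [mul_assoc, ← mem_centralizer_singleton_iff.1 a.2, inv_mul_cancel_left]]
          exact htQ)⟩ : {R : Subgroup X // Nat.card R = 11 ∧ t ∈ normalizer (R : Set X)}))
      (fun a b hab => Subtype.ext ((hiff a b).2 (QuotientGroup.leftRel_apply.1 hab)))) ⟨?_, ?_⟩)).symm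
  · intro x y hxy
    induction x using Quotient.inductionOn
    induction y using Quotient.inductionOn
    exact Quotient.sound (QuotientGroup.leftRel_apply.2 ((hiff _ _).1 (congrArg Subtype.val hxy)))
  · rintro ⟨R, hR, htR⟩
    obtain ⟨c, hct, hcR⟩ := h.transitive ht hQ hR htQ htR
    exact ⟨Quotient.mk _ ⟨c, mem_centralizer_singleton_iff.2 hct.eq⟩, Subtype.ext hcR⟩

/-- No subgroup of odd order has order divisible by `7 * 11 * 19`. -/
theorem IsJ.not_odd_1463 (h : IsJ X) (D : Subgroup X) (hodd : Odd (Nat.card D))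
    (hd : 1463 ∣ Nat.card D) : False := by
  have hdiv : Nat.card D ∣ 21945 := by
    have h1 := card_subgroup_dvd_card D
    rw [h.card, show (175560 : ℕ) = 2 ^ 3 * 21945 by norm_num] at h1
    exact ((Nat.coprime_two_left.2 hodd).symm.pow_right 3).dvd_of_dvd_mul_left h1
  haveI : IsZGroup ↥D := IsZGroup.of_squarefree (Squarefree.squarefree_of_dvd hdiv (by
    rw [show (21945 : ℕ) = 3 * (5 * (7 * (11 * 19))) by norm_num]
    repeat' rw [Nat.squarefree_mul (by norm_num)]
    exact ⟨Nat.prime_three.squarefree, Nat.prime_five.squarefree, (by norm_num : Nat.Prime 7).squarefree,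
      (by norm_num : Nat.Prime 11).squarefree, (by norm_num : Nat.Prime 19).squarefree⟩))
  have bad : ∀ m, (77 ∣ m ∨ 133 ∣ m ∨ 209 ∣ m) → ∀ x : ↥D, orderOf x ≠ m := by
    intro m hm x hx
    rw [← Subgroup.orderOf_coe] at hx
    have := h.orderOf_mem (x : X)
    rw [hx] at this
    simp only [Set.mem_insert_iff, Set.mem_singleton_iff] at this
    omega
  set C := commutator ↥D
  have hmul := C.card_mul_index
  have two : (77 ∣ Nat.card C ∨ 133 ∣ Nat.card C ∨ 209 ∣ Nat.card C) ∨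
      (77 ∣ C.index ∨ 133 ∣ C.index ∨ 209 ∣ C.index) := by
    have hp : ∀ p, p.Prime → p ∣ 1463 → p ∣ Nat.card C ∨ p ∣ C.index := fun p hp hpd =>
      hp.dvd_mul.1 (hmul.symm ▸ hpd.trans hd)
    have h7 := hp 7 (by norm_num) (by norm_num)
    have h11 := hp 11 (by norm_num) (by norm_num)
    have h19 := hp 19 (by norm_num) (by norm_num)
    omega
  haveI : IsCyclic ↥C := IsZGroup.isCyclic_commutator _
  haveI : IsCyclic (↥D ⧸ C) := inferInstanceAs (IsCyclic (Abelianization ↥D))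
  rcases two with hm | hm
  · obtain ⟨x, hx⟩ := IsCyclic.exists_ofOrder_eq_natCard (α := ↥C)
    exact bad _ hm x.1 (by rw [Subgroup.orderOf_coe, hx])
  · obtain ⟨x, hx⟩ := IsCyclic.exists_ofOrder_eq_natCard (α := ↥D ⧸ C)
    obtain ⟨y, rfl⟩ := QuotientGroup.mk_surjective x
    have hd2 : C.index ∣ orderOf y := by
      rw [C.index_eq_card, ← hx]
      exact orderOf_map_dvd (QuotientGroup.mk' C) y
    exact bad _ (by
      rcases hm with r | r | r
      exacts [Or.inl (r.trans hd2), Or.inr (Or.inl (r.trans hd2)), Or.inr (Or.inr (r.trans hd2))]) y rfl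

/-- The image of `t` in `C(t) ≅ 2 × A5`. -/
theorem equiv_self {t : X} (ht : orderOf t = 2)
    (e : ↥(centralizer ({t} : Set X)) ≃* Multiplicative (ZMod 2) × ↥(alternatingGroup (Fin 5))) :
    (e ⟨t, mem_centralizer_singleton_iff.2 rfl⟩).1 ≠ 1 ∧ (e ⟨t, mem_centralizer_singleton_iff.2 rfl⟩).2 = 1 := by
  set T : ↥(centralizer ({t} : Set X)) := ⟨t, mem_centralizer_singleton_iff.2 rfl⟩
  have hT2 : (e T).2 = 1 := alt_center _ fun g => by
    have hcomm : Commute T (e.symm (1, g)) :=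
      Subtype.ext (mem_centralizer_singleton_iff.1 (e.symm (1, g)).2).symm
    simpa using congrArg Prod.snd (hcomm.map e).eq
  refine ⟨fun h1 => ?_, hT2⟩
  have : T = 1 := e.injective (by rw [map_one]; exact Prod.ext h1 hT2)
  have h2 := congrArg (orderOf ∘ Subtype.val) this
  simp [T, ht] at h2

/-- An involution of `C(t)` other than `t` has nontrivial image in `A5`. -/
theorem equiv_invol {t : X} (ht : orderOf t = 2)
    (e : ↥(centralizer ({t} : Set X)) ≃* Multiplicative (ZMod 2) × ↥(alternatingGroup (Fin 5)))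
    {w : ↥(centralizer ({t} : Set X))} (hw : orderOf (w : X) = 2) (hwt : (w : X) ≠ t) :
    (e w).2 * (e w).2 = 1 ∧ (e w).2 ≠ 1 := by
  have hww : w * w = 1 := Subtype.ext (by rw [Subgroup.coe_mul, ← sq, ← hw, pow_orderOf_eq_one]; rfl)
  refine ⟨by rw [← Prod.snd_mul, ← map_mul, hww, map_one, Prod.snd_one], fun h2 => ?_⟩
  obtain ⟨hT1, hT2⟩ := equiv_self ht e
  rcases zmodTwo_cases (e w).1 _ hT1 with r | r
  · have : w = 1 := e.injective (by rw [map_one]; exact Prod.ext r h2)
    rw [this, OneMemClass.coe_one, orderOf_one] at hw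
    omega
  · have : w = ⟨t, mem_centralizer_singleton_iff.2 rfl⟩ := e.injective (Prod.ext r (h2.trans hT2.symm))
    exact hwt (congrArg Subtype.val this)

/-- Two involutions of `C(t)` other than `t` are conjugate there modulo `t`. -/
theorem IsJ.invol_conj (h : IsJ X) {t x w : X} (ht : orderOf t = 2) (hx : orderOf x = 2)
    (hxt : Commute x t) (hxn : x ≠ t) (hw : orderOf w = 2) (hwt : Commute w t) (hwn : w ≠ t) :
    ∃ c : X, Commute c t ∧ (c * x * c⁻¹ = w ∨ c * x * c⁻¹ = w * t) := by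
  obtain ⟨e⟩ := h.centralizer_equiv ht
  set T : ↥(centralizer ({t} : Set X)) := ⟨t, mem_centralizer_singleton_iff.2 rfl⟩
  set x₀ : ↥(centralizer ({t} : Set X)) := ⟨x, mem_centralizer_singleton_iff.2 hxt.eq⟩
  set w₀ : ↥(centralizer ({t} : Set X)) := ⟨w, mem_centralizer_singleton_iff.2 hwt.eq⟩
  obtain ⟨ha, ha1⟩ := equiv_invol ht e (w := x₀) hx hxn
  obtain ⟨hb, hb1⟩ := equiv_invol ht e (w := w₀) hw hwn
  obtain ⟨hT1, hT2⟩ := equiv_self ht e
  obtain ⟨c, hc⟩ := alt_invol_conj _ _ ha ha1 hb hb1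
  set c₀ : ↥(centralizer ({t} : Set X)) := e.symm (1, c) with hc₀
  refine ⟨c₀, mem_centralizer_singleton_iff.1 c₀.2, ?_⟩
  have hconj : e (c₀ * x₀ * c₀⁻¹) = ((e x₀).1, (e w₀).2) := by
    rw [hc₀, map_mul, map_mul, map_inv, e.apply_symm_apply]
    exact Prod.ext (by simp) hc
  have hcases : (e x₀).1 = (e w₀).1 ∨ (e x₀).1 = (e w₀).1 * (e T).1 := by
    revert hT1
    generalize (e x₀).1 = p, (e w₀).1 = q, (e T).1 = r
    revert p q r
    decide
  rcases hcases with r | r
  · left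
    have : c₀ * x₀ * c₀⁻¹ = w₀ := e.injective (hconj.trans (Prod.ext r rfl))
    exact congrArg Subtype.val this
  · right
    have : c₀ * x₀ * c₀⁻¹ = w₀ * T := e.injective (hconj.trans (Prod.ext (by rw [map_mul]; exact r)
      (by rw [map_mul, Prod.snd_mul, hT2, mul_one])))
    exact congrArg Subtype.val this

/-- Eight elements of `C(t)` fix an involution modulo `t`. -/
theorem IsJ.card_invol_normalizer (h : IsJ X) {t w : X} (ht : orderOf t = 2) (hw : orderOf w = 2)
    (hwt : Commute w t) (hwn : w ≠ t) :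
    Nat.card {c : X // Commute c t ∧ (c * w * c⁻¹ = w ∨ c * w * c⁻¹ = w * t)} = 8 := by
  obtain ⟨e⟩ := h.centralizer_equiv ht
  set T : ↥(centralizer ({t} : Set X)) := ⟨t, mem_centralizer_singleton_iff.2 rfl⟩
  set w₀ : ↥(centralizer ({t} : Set X)) := ⟨w, mem_centralizer_singleton_iff.2 hwt.eq⟩
  obtain ⟨hb, hb1⟩ := equiv_invol ht e (w := w₀) hw hwn
  obtain ⟨hT1, hT2⟩ := equiv_self ht e
  have key : ∀ c : ↥(centralizer ({t} : Set X)),
      ((c : X) * w * (c : X)⁻¹ = w ∨ (c : X) * w * (c : X)⁻¹ = w * t) ↔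
        (e c).2 * (e w₀).2 * (e c).2⁻¹ = (e w₀).2 := by
    intro c
    constructor
    · rintro (r | r)
      · have : c * w₀ * c⁻¹ = w₀ := Subtype.ext r
        have h2 := congrArg (fun z => (e z).2) this
        simpa using h2
      · have : c * w₀ * c⁻¹ = w₀ * T := Subtype.ext r
        have h2 := congrArg (fun z => (e z).2) this
        simpa [show (e T).2 = 1 from hT2, mul_one] using h2.trans (by
          rw [map_mul, Prod.snd_mul, show (e T).2 = 1 from hT2, mul_one])
    · intro r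
      have h1 : (e (c * w₀ * c⁻¹)).1 = (e w₀).1 := by
        rw [map_mul, map_mul, map_inv, Prod.fst_mul, Prod.fst_mul, Prod.fst_inv, mul_comm (e c).1,
          mul_inv_cancel_right]
      have : c * w₀ * c⁻¹ = w₀ := e.injective (Prod.ext h1 (by simpa using r))
      exact Or.inl (congrArg Subtype.val this)
  have h1 : Nat.card {a : ↥(alternatingGroup (Fin 5)) // a * (e w₀).2 * a⁻¹ = (e w₀).2} = 4 := by
    rw [Nat.card_eq_fintype_card, Fintype.card_subtype]
    exact alt_invol_centralizer _ hb hb1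
  have h2 : Nat.card (Multiplicative (ZMod 2)) = 2 := by
    rw [Nat.card_congr Multiplicative.toAdd, Nat.card_zmod]
  rw [show (8 : ℕ) = 2 * 4 from rfl, ← h1]
  conv_rhs => arg 1; rw [← h2]
  rw [← Nat.card_prod]
  refine Nat.card_congr
    { toFun := fun c => ((e ⟨c.1, mem_centralizer_singleton_iff.2 c.2.1.eq⟩).1,
        ⟨(e ⟨c.1, mem_centralizer_singleton_iff.2 c.2.1.eq⟩).2, (key _).1 c.2.2⟩)
      invFun := fun p => ⟨(e.symm (p.1, p.2.1)).1,
        mem_centralizer_singleton_iff.1 (e.symm (p.1, p.2.1)).2,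
        (key _).2 (by rw [e.apply_symm_apply]; exact p.2.2)⟩
      left_inv := fun c => Subtype.ext (by simp)
      right_inv := fun p => by simp }

end Eleven

end Cfsg.Agent.ElevenPairs
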