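import Mathlib
import Cfsg.Prelude.Def_Spor_J1

/-!
# Subgroups of order eleven any two of which generate PSL(2,11) or the first Janko group

Definitions for the proof of `S3403`. The members are the conjugates of `P`.
-/

set_option autoImplicit false

namespace Cfsg.Agent.ElevenPairs

universe u

/-- `X` is isomorphic to PSL(2,11). -/
def IsL (X : Type u) [Group X] : Prop :=
  Nonempty (X ≃* Matrix.ProjectiveSpecialLinearGroup (Fin 2) (ZMod 11))

/-- `X` is isomorphic to the first Janko group. -/
def IsJ (X : Type u) [Group X] : Prop := Cfsg.Spor.IsoJ1 X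

variable {G : Type u} [Group G]

/-- `Q` is a member: a conjugate of `P`. -/
def Member (P Q : Subgroup G) : Prop := ∃ g : G, P.map (MulAut.conj g).toMonoidHom = Q

/-- The members as a type, with the conjugation action. -/
abbrev Mem (P : Subgroup G) : Type u := {Q : Subgroup G // Member P Q}

theorem map_conj_mul (Q : Subgroup G) (g h : G) :
    Q.map (MulAut.conj (g * h)).toMonoidHom =
      (Q.map (MulAut.conj h).toMonoidHom).map (MulAut.conj g).toMonoidHom := by
  rw [Subgroup.map_map]
  congr 1
  ext x
  simp [mul_assoc]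

theorem map_conj_one (Q : Subgroup G) : Q.map (MulAut.conj (1 : G)).toMonoidHom = Q := by
  rw [map_one]
  ext x
  simp

theorem Member.conj {P Q : Subgroup G} (h : Member P Q) (g : G) :
    Member P (Q.map (MulAut.conj g).toMonoidHom) := by
  obtain ⟨a, rfl⟩ := h
  exact ⟨g * a, map_conj_mul P g a⟩

instance instMulActionMem (P : Subgroup G) : MulAction G (Mem P) where
  smul g Q := ⟨Q.1.map (MulAut.conj g).toMonoidHom, Q.2.conj g⟩
  one_smul Q := Subtype.ext (map_conj_one Q.1)
  mul_smul g h Q := Subtype.ext (map_conj_mul Q.1 g h)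

theorem Mem.smul_val {P : Subgroup G} (g : G) (Q : Mem P) :
    (g • Q).1 = Q.1.map (MulAut.conj g).toMonoidHom := rfl

/-- `P` itself, as a member. -/
def Mem.base (P : Subgroup G) : Mem P := ⟨P, 1, map_conj_one P⟩

/-- The hypotheses of the theorem. -/
structure Setting (P : Subgroup G) : Prop where
  card : Nat.card P = 11
  not_normal : ¬ P.Normal
  gen : Subgroup.normalClosure (P : Set G) = ⊤
  pair : ∀ Q : Subgroup G, Member P Q → Q ≠ P → IsL ↥(P ⊔ Q) ∨ IsJ ↥(P ⊔ Q)

/-- The minimal situation to be refuted: no pair is the whole group, every proper subgroup generated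
by two or more members is a pair, and the group is simple. -/
structure Core (P : Subgroup G) : Prop extends Setting P where
  simple : IsSimpleGroup G
  proper : ∀ Q : Subgroup G, Member P Q → P ⊔ Q ≠ ⊤
  sub : ∀ S : Set (Subgroup G), (∀ Q ∈ S, Member P Q) → sSup S ≠ ⊤ →
    ∀ Q ∈ S, ∀ R ∈ S, Q ≠ R → ∃ R' : Subgroup G, Member P R' ∧ sSup S = Q ⊔ R'

end Cfsg.Agent.ElevenPairs
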