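import Mathlib
import Cfsg.Agent.Lib.ElevenPairs.Defs
import Cfsg.Agent.Lib.Forms.KleinPSL
import Cfsg.Agent.Lib.Classical.GL2

/-!
# Facts about the pairs isomorphic to PSL(2,11)

The two order eleven subgroups of a pair are brought to upper and lower unitriangular form.
-/

set_option autoImplicit false

namespace Cfsg.Agent.ElevenPairs

open scoped MatrixGroups
open Forms.KleinPSL Classical.GL2

universe u

instance fact_prime_eleven : Fact (Nat.Prime 11) := ⟨by norm_num⟩

namespace Model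

/-- The model. -/
abbrev M : Type := Matrix.ProjectiveSpecialLinearGroup (Fin 2) (ZMod 11)

/-- upper unipotents -/
def up (c : ZMod 11) : M := pi (ZMod 11) (uniSL c)
/-- lower unipotents -/
def lo (c : ZMod 11) : M := pi (ZMod 11) (lowSL c)

theorem up_zero : up 0 = 1 := by rw [up, uniSL_zero, map_one]

theorem up_mul (a b : ZMod 11) : up a * up b = up (a + b) := by
  rw [up, up, up, ← map_mul, uniSL_mul]

theorem lowSL_mul (a b : ZMod 11) : lowSL a * lowSL b = lowSL (a + b) := by
  refine sl_ext ?_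
  rw [Matrix.SpecialLinearGroup.coe_mul, coe_lowSL, coe_lowSL, coe_lowSL]
  simp

theorem lo_zero : lo 0 = 1 := by
  have : lowSL (0 : ZMod 11) = 1 := sl_ext (by
    rw [coe_lowSL, Matrix.SpecialLinearGroup.coe_one, Matrix.one_fin_two])
  rw [lo, this, map_one]

theorem lo_mul (a b : ZMod 11) : lo a * lo b = lo (a + b) := by
  rw [lo, lo, lo, ← map_mul, lowSL_mul]

theorem up_pow (c : ZMod 11) (k : ℕ) : up c ^ k = up (k * c) := by
  induction k with
  | zero => rw [pow_zero, Nat.cast_zero, zero_mul, up_zero]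
  | succ k ih => rw [pow_succ, ih, up_mul, Nat.cast_succ, add_mul, one_mul]

theorem lo_pow (c : ZMod 11) (k : ℕ) : lo c ^ k = lo (k * c) := by
  induction k with
  | zero => rw [pow_zero, Nat.cast_zero, zero_mul, lo_zero]
  | succ k ih => rw [pow_succ, ih, lo_mul, Nat.cast_succ, add_mul, one_mul]

theorem up_inv (c : ZMod 11) : (up c)⁻¹ = up (-c) :=
  inv_eq_of_mul_eq_one_right (by rw [up_mul, add_neg_cancel, up_zero])

theorem lo_inv (c : ZMod 11) : (lo c)⁻¹ = lo (-c) :=
  inv_eq_of_mul_eq_one_right (by rw [lo_mul, add_neg_cancel, lo_zero])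

/-- equality in the model, by entries -/
theorem pi_eq_of_entries {a b : SL(2, ZMod 11)}
    (h : (∀ i j, (a : Matrix (Fin 2) (Fin 2) (ZMod 11)) i j = b i j) ∨
      ∀ i j, (a : Matrix (Fin 2) (Fin 2) (ZMod 11)) i j = -b i j) :
    pi (ZMod 11) a = pi (ZMod 11) b := by
  rw [pi_eq_iff]
  rcases h with h | h
  · exact Or.inl (sl_ext (Matrix.ext h))
  · exact Or.inr (sl_ext (by
      rw [Matrix.SpecialLinearGroup.coe_neg]
      exact Matrix.ext fun i j => by rw [h i j, Matrix.neg_apply]))

theorem entries_of_pi_eq {a b : SL(2, ZMod 11)} (h : pi (ZMod 11) a = pi (ZMod 11) b) :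
    (∀ i j, (a : Matrix (Fin 2) (Fin 2) (ZMod 11)) i j = b i j) ∨
      ∀ i j, (a : Matrix (Fin 2) (Fin 2) (ZMod 11)) i j = -b i j := by
  rcases pi_eq_iff.1 h with h | h
  · exact Or.inl fun i j => by rw [h]
  · exact Or.inr fun i j => by rw [h, Matrix.SpecialLinearGroup.coe_neg, Matrix.neg_apply]

theorem up_one_ne : up 1 ≠ 1 := by
  intro h
  rw [← up_zero] at h
  rcases entries_of_pi_eq h with h | h
  · have := h 0 1
    simp [coe_uniSL] at this
  · have := h 0 0
    simp [coe_uniSL] at this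
    exact absurd this (by decide)

theorem lo_one_ne : lo 1 ≠ 1 := by
  intro h
  rw [← lo_zero] at h
  rcases entries_of_pi_eq h with h | h
  · have := h 1 0
    simp [coe_lowSL] at this
  · have := h 0 0
    simp [coe_lowSL] at this
    exact absurd this (by decide)

/-- the upper subgroup -/
def U : Subgroup M := Subgroup.zpowers (up 1)
/-- the lower subgroup -/
def V : Subgroup M := Subgroup.zpowers (lo 1)

theorem orderOf_up : orderOf (up 1) = 11 :=
  orderOf_eq_prime (by rw [up_pow, mul_one, show ((11 : ℕ) : ZMod 11) = 0 from rfl, up_zero]) up_one_ne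

theorem orderOf_lo : orderOf (lo 1) = 11 :=
  orderOf_eq_prime (by rw [lo_pow, mul_one, show ((11 : ℕ) : ZMod 11) = 0 from rfl, lo_zero]) lo_one_ne

theorem card_U : Nat.card U = 11 := (Nat.card_zpowers _).trans orderOf_up
theorem card_V : Nat.card V = 11 := (Nat.card_zpowers _).trans orderOf_lo

theorem up_mem (c : ZMod 11) : up c ∈ U := by
  have h : up c = up 1 ^ c.val := by rw [up_pow, mul_one, ZMod.natCast_rightInverse c]
  rw [h]
  exact pow_mem (Subgroup.mem_zpowers _) _

theorem lo_mem (c : ZMod 11) : lo c ∈ V := by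
  have h : lo c = lo 1 ^ c.val := by rw [lo_pow, mul_one, ZMod.natCast_rightInverse c]
  rw [h]
  exact pow_mem (Subgroup.mem_zpowers _) _

theorem mem_U {x : M} (hx : x ∈ U) : ∃ c, x = up c := by
  obtain ⟨k, rfl⟩ := mem_powers_iff_mem_zpowers.2 hx
  exact ⟨(k : ZMod 11), by show up 1 ^ k = _; rw [up_pow, mul_one]⟩

theorem mem_V {x : M} (hx : x ∈ V) : ∃ c, x = lo c := by
  obtain ⟨k, rfl⟩ := mem_powers_iff_mem_zpowers.2 hx
  exact ⟨(k : ZMod 11), by show lo 1 ^ k = _; rw [lo_pow, mul_one]⟩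

theorem card : Nat.card M = 660 := by
  have h := Classical.Linear.gcd_mul_natCard_PSL_fin (F := ZMod 11) (k := 2) (by norm_num)
  have h2 := Classical.Linear.mul_natCard_SL_fin (F := ZMod 11) (k := 2) (by norm_num)
  rw [ZMod.card] at h h2
  simp only [Fin.prod_univ_two, Fin.val_zero, Fin.val_one, pow_zero, pow_one,
    show Nat.gcd 2 (11 - 1) = 2 from rfl] at h h2
  norm_num [-Nat.card_eq_fintype_card] at h2
  show Nat.card (Matrix.ProjectiveSpecialLinearGroup (Fin 2) (ZMod 11)) = 660
  omega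

theorem up_injective : Function.Injective up := by
  intro a b h
  rw [up, up] at h
  rcases entries_of_pi_eq h with h | h
  · simpa [coe_uniSL] using h 0 1
  · exact absurd (show (1 : ZMod 11) = -1 by simpa [coe_uniSL] using h 0 0) (by decide)

theorem sup_eq_top : U ⊔ V = ⊤ := by
  refine eq_top_iff.2 fun x _ => ?_
  obtain ⟨g, rfl⟩ := pi_surjective x
  have hUV : ∀ a b c : ZMod 11, up a * lo b * up c ∈ U ⊔ V := fun a b c =>
    mul_mem (mul_mem (Subgroup.mem_sup_left (up_mem a)) (Subgroup.mem_sup_right (lo_mem b)))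
      (Subgroup.mem_sup_left (up_mem c))
  have key : ∀ g : SL(2, ZMod 11), g 1 0 ≠ 0 → pi (ZMod 11) g ∈ U ⊔ V := by
    intro g hc
    have hd : g 0 0 * g 1 1 - g 0 1 * g 1 0 = 1 := by
      rw [← Matrix.det_fin_two]; exact g.2
    have : pi (ZMod 11) g = up ((g 0 0 - 1) / g 1 0) * lo (g 1 0) * up ((g 1 1 - 1) / g 1 0) := by
      rw [up, up, lo, ← map_mul, ← map_mul]
      refine pi_eq_of_entries (Or.inl fun i j => ?_)
      fin_cases i <;> fin_cases j <;>
        simp [Matrix.mul_apply, Fin.sum_univ_two, coe_uniSL, coe_lowSL]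
      all_goals field_simp
      all_goals first
        | linear_combination (0 : ZMod 11) * hd
        | linear_combination -hd
        | linear_combination hd
    rw [this]; exact hUV _ _ _
  by_cases hc : g 1 0 = 0
  · have hd : g 0 0 * g 1 1 - g 0 1 * g 1 0 = 1 := by
      rw [← Matrix.det_fin_two]; exact g.2
    rw [hc, mul_zero, sub_zero] at hd
    have h00 : g 0 0 ≠ 0 := fun h => by rw [h, zero_mul] at hd; exact zero_ne_one hd
    have h2 := key (lowSL 1 * g) (by
      simp [Matrix.mul_apply, Fin.sum_univ_two, coe_lowSL, hc, h00])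
    rw [map_mul] at h2
    exact (Subgroup.mul_mem_cancel_left _ (Subgroup.mem_sup_right (lo_mem 1))).1 h2
  · exact key g hc

/-- A conjugate of an upper unipotent is upper, or lower conjugated by an upper one. -/
theorem conj_up_one (g : SL(2, ZMod 11)) :
    (∃ c, pi (ZMod 11) g * up 1 * (pi (ZMod 11) g)⁻¹ = up c) ∨
      ∃ a t, pi (ZMod 11) g * up 1 * (pi (ZMod 11) g)⁻¹ = up a * lo t * (up a)⁻¹ := by
  have hd : g 0 0 * g 1 1 - g 0 1 * g 1 0 = 1 := by
    rw [← Matrix.det_fin_two]; exact g.2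
  by_cases hc : g 1 0 = 0
  · refine Or.inl ⟨g 0 0 * g 0 0, ?_⟩
    rw [mul_inv_eq_iff_eq_mul, up, up, ← map_mul, ← map_mul]
    refine pi_eq_of_entries (Or.inl fun i j => ?_)
    rw [hc, mul_zero, sub_zero] at hd
    fin_cases i <;> fin_cases j <;>
      simp [Matrix.mul_apply, Fin.sum_univ_two, coe_uniSL, hc]
    linear_combination -(g 0 0) * hd
  · refine Or.inr ⟨g 0 0 / g 1 0, -(g 1 0 * g 1 0), ?_⟩
    rw [mul_inv_eq_iff_eq_mul, up, up, lo, ← map_inv, uniSL_inv, ← map_mul, ← map_mul, ← map_mul,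
      ← map_mul]
    refine pi_eq_of_entries (Or.inl fun i j => ?_)
    fin_cases i <;> fin_cases j <;>
      simp [Matrix.mul_apply, Fin.sum_univ_two, coe_uniSL, coe_lowSL]
    all_goals field_simp
    all_goals first
      | linear_combination (0 : ZMod 11) * hd
      | linear_combination -(g 0 0 * g 1 0) * hd
      | linear_combination -(g 1 0) * hd
      | linear_combination (g 1 0) * hd

/-- Two subgroups of order eleven can be brought to the standard position. -/
theorem exists_std (Q R : Subgroup M) (hQ : Nat.card Q = 11) (hR : Nat.card R = 11) (hne : Q ≠ R) :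
    ∃ g : M, U.map (MulAut.conj g).toMonoidHom = Q ∧ V.map (MulAut.conj g).toMonoidHom = R := by
  have key : ∀ S : Subgroup M, Nat.card S = 11 → Nat.card S = 11 ^ (Nat.card M).factorization 11 := by
    intro S hS
    have h11 : (660 : ℕ).factorization 11 = 1 := by
      rw [show (660 : ℕ) = 11 * 60 from rfl, Nat.factorization_mul (by norm_num) (by norm_num),
        Finsupp.add_apply, Nat.Prime.factorization_self (by norm_num),
        Nat.factorization_eq_zero_of_not_dvd (by norm_num)]
    rw [hS, card, h11, pow_one]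
  let SU : Sylow 11 M := Sylow.ofCard U (key U card_U)
  let SQ : Sylow 11 M := Sylow.ofCard Q (key Q hQ)
  obtain ⟨g, hg⟩ := MulAction.exists_smul_eq M SU SQ
  have hgQ : U.map (MulAut.conj g).toMonoidHom = Q := congrArg Sylow.toSubgroup hg
  set R' : Subgroup M := R.map (MulAut.conj g⁻¹).toMonoidHom with hR'
  have hR'card : Nat.card R' = 11 := by
    rw [hR', Subgroup.card_map_of_injective (MulAut.conj g⁻¹).injective, hR]
  let SR : Sylow 11 M := Sylow.ofCard R' (key R' hR'card)
  obtain ⟨h, hh⟩ := MulAction.exists_smul_eq M SU SR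
  have hhR : U.map (MulAut.conj h).toMonoidHom = R' := congrArg Sylow.toSubgroup hh
  obtain ⟨h0, rfl⟩ := pi_surjective h
  have hmem : pi (ZMod 11) h0 * up 1 * (pi (ZMod 11) h0)⁻¹ ∈ R' := by
    rw [← hhR]; exact ⟨up 1, Subgroup.mem_zpowers _, rfl⟩
  have hback : R = R'.map (MulAut.conj g).toMonoidHom := by
    rw [hR', ← map_conj_mul, mul_inv_cancel, map_conj_one]
  rcases conj_up_one h0 with ⟨c, hc⟩ | ⟨a, t, hc⟩
  · refine absurd ?_ hne
    rw [hc] at hmem
    have hsub : R' ≤ U := by
      intro x hx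
      rw [← hhR] at hx
      obtain ⟨y, hy, rfl⟩ := hx
      obtain ⟨k, rfl⟩ := mem_powers_iff_mem_zpowers.2 hy
      show pi (ZMod 11) h0 * up 1 ^ k * (pi (ZMod 11) h0)⁻¹ ∈ U
      rw [← conj_pow, hc]
      exact pow_mem (up_mem c) k
    have heq : R' = U := Subgroup.eq_of_le_of_card_ge hsub (le_of_eq (card_U.trans hR'card.symm))
    rw [hback, heq, hgQ]
  · refine ⟨g * up a, ?_, ?_⟩
    · rw [map_conj_mul, show U.map (MulAut.conj (up a)).toMonoidHom = U from ?_, hgQ]
      refine Subgroup.eq_of_le_of_card_ge ?_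
        (le_of_eq (Subgroup.card_map_of_injective (MulAut.conj (up a)).injective).symm)
      rintro _ ⟨x, hx, rfl⟩
      exact mul_mem (mul_mem (up_mem a) hx) (inv_mem (up_mem a))
    · rw [map_conj_mul, hback]
      congr 1
      refine (Subgroup.eq_of_le_of_card_ge ?_
        (le_of_eq (by rw [hR'card, Subgroup.card_map_of_injective (MulAut.conj (up a)).injective,
          card_V]))).symm
      intro x hx
      rw [← hhR] at hx
      obtain ⟨y, hy, rfl⟩ := hx
      obtain ⟨k, rfl⟩ := mem_powers_iff_mem_zpowers.2 hy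
      show pi (ZMod 11) h0 * up 1 ^ k * (pi (ZMod 11) h0)⁻¹ ∈ _
      rw [← conj_pow, hc, conj_pow]
      exact ⟨lo t ^ k, pow_mem (lo_mem t) k, rfl⟩

theorem scale_cases : ∀ a b : ZMod 11,
    (∀ i j, ((!![1, a; 0, 1] * !![1, 0; -b, 1] * !![1, a; 0, 1] * !![1, a; 0, 1] :
        Matrix (Fin 2) (Fin 2) (ZMod 11))) i j =
      ((!![1, 0; -b, 1] * (!![1, a; 0, 1] * !![1, 0; -b, 1] * !![1, a; 0, 1]) :
        Matrix (Fin 2) (Fin 2) (ZMod 11))) i j) ∨
    (∀ i j, ((!![1, a; 0, 1] * !![1, 0; -b, 1] * !![1, a; 0, 1] * !![1, a; 0, 1] :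
        Matrix (Fin 2) (Fin 2) (ZMod 11))) i j =
      -((!![1, 0; -b, 1] * (!![1, a; 0, 1] * !![1, 0; -b, 1] * !![1, a; 0, 1]) :
        Matrix (Fin 2) (Fin 2) (ZMod 11))) i j) → a ≠ 0 → b ≠ 0 → a * b = 1 := by
  decide +kernel

/-- The exponents of an automorphism on the two standard subgroups are inverse to each other. -/
theorem scale_mul_eq_one (α : MulAut M) (a b : ZMod 11) (ha : α (up 1) = up a) (hb : α (lo 1) = lo b) :
    a * b = 1 := by
  have ha0 : a ≠ 0 := fun h => up_one_ne (α.injective (by rw [ha, h, up_zero, map_one]))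
  have hb0 : b ≠ 0 := fun h => lo_one_ne (α.injective (by rw [hb, h, lo_zero, map_one]))
  have hrel : up 1 * lo (-1) * up 1 * up 1 = lo (-1) * (up 1 * lo (-1) * up 1) := by
    rw [up, lo, ← map_mul, ← map_mul, ← map_mul, ← map_mul]
    refine pi_eq_of_entries (Or.inl fun i j => ?_)
    fin_cases i <;> fin_cases j <;>
      simp [Matrix.mul_apply, Fin.sum_univ_two, coe_uniSL, coe_lowSL]
  have hlo : α (lo (-1)) = lo (-b) := by rw [← lo_inv, map_inv, hb, lo_inv]
  have h := congrArg α hrel
  rw [map_mul, map_mul, map_mul, map_mul, map_mul, map_mul, ha, hlo] at h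
  rw [up, lo, ← map_mul, ← map_mul, ← map_mul, ← map_mul] at h
  refine scale_cases a b ?_ ha0 hb0
  simpa [Matrix.SpecialLinearGroup.coe_mul, coe_uniSL, coe_lowSL] using entries_of_pi_eq h

theorem simple : IsSimpleGroup M :=
  Classical.Linear.isSimpleGroup_PSL_fin le_rfl fun _ => by rw [ZMod.card]; norm_num

/-- An automorphism normalising `U` and `V` is given there by scalars. -/
theorem exists_scale_U {α : MulAut M} (h : U.map α.toMonoidHom = U) : ∃ a, α (up 1) = up a :=
  mem_U (h.le ⟨up 1, Subgroup.mem_zpowers _, rfl⟩)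

theorem exists_scale_V {α : MulAut M} (h : V.map α.toMonoidHom = V) : ∃ b, α (lo 1) = lo b :=
  mem_V (h.le ⟨lo 1, Subgroup.mem_zpowers _, rfl⟩)

/-- the matrix `[[0, 1], [-1, 3]]` -/
def wInv : SL(2, ZMod 11) := ⟨!![0, 1; -1, 3], by rw [Matrix.det_fin_two]; decide⟩

theorem wInv_eq : pi (ZMod 11) wInv = up 1 * lo (-1) * up (-2) := by
  rw [up, up, lo, ← map_mul, ← map_mul]
  refine pi_eq_of_entries (Or.inl fun i j => ?_)
  fin_cases i <;> fin_cases j <;>
    simp [wInv, Matrix.mul_apply, Fin.sum_univ_two, coe_uniSL, coe_lowSL] <;> decide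

/-- An automorphism inverting both standard subgroups moves some `g` so that `g * α g` is an
involution. -/
theorem inverting_sq (α : MulAut M) (ha : α (up 1) = up (-1)) (hb : α (lo 1) = lo (-1)) :
    ∃ g : M, orderOf (g * α g) = 2 := by
  have h1 : α (lo (-1)) = lo 1 := by rw [← lo_inv, map_inv, hb, lo_inv, neg_neg]
  have h2 : α (up (-2)) = up 2 := by
    rw [← up_inv, map_inv, show (2 : ZMod 11) = 1 + 1 from rfl, ← up_mul, map_mul, ha, up_mul,
      up_inv, show -(-1 + -1 : ZMod 11) = 1 + 1 from rfl, up_mul]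
  refine ⟨pi (ZMod 11) wInv, ?_⟩
  rw [wInv_eq, map_mul, map_mul, h1, ha, h2, up, up, up, up, lo, lo]
  simp only [← map_mul]
  rw [orderOf_pi_eq_two (by decide)]
  refine sl_ext (Matrix.ext fun i j => ?_)
  fin_cases i <;> fin_cases j <;>
    simp [Matrix.mul_apply, Fin.sum_univ_two, coe_uniSL, coe_lowSL] <;> decide

/-- the torus element `diag(4, 3)` -/
def tor : M := lo 2 * up 1 * lo 3 * up (-3)

theorem tor_cases : ∀ a : ZMod 11, ∀ b : ZMod 11, a * b ≠ 1 ∨
    ((!![1, 0; 2 * b, 1] * !![1, a; 0, 1] * !![1, 0; 3 * b, 1] * !![1, -(3 * a); 0, 1] :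
        Matrix (Fin 2) (Fin 2) (ZMod 11))) = !![4, 0; 0, 3] := by
  decide +kernel

/-- the matrix `diag(4, 3)` -/
def torSL : SL(2, ZMod 11) := ⟨!![4, 0; 0, 3], by rw [Matrix.det_fin_two]; decide⟩

theorem coe_torSL : (torSL : Matrix (Fin 2) (Fin 2) (ZMod 11)) = !![4, 0; 0, 3] := rfl

theorem tor_eq : tor = pi (ZMod 11) torSL := by
  rw [tor, up, up, lo, lo, ← map_mul, ← map_mul, ← map_mul]
  refine pi_eq_of_entries (Or.inl fun i j => ?_)
  fin_cases i <;> fin_cases j <;>
    simp [Matrix.mul_apply, Fin.sum_univ_two, coe_uniSL, coe_lowSL, coe_torSL] <;> decide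

/-- The torus commutes with every automorphism given by scalars on the standard subgroups. -/
theorem tor_fixed (α : MulAut M) (a b : ZMod 11) (ha : α (up 1) = up a) (hb : α (lo 1) = lo b)
    (hab : a * b = 1) : α tor = tor := by
  have hu : ∀ c, α (up c) = up (c * a) := fun c => by
    rw [show up c = up 1 ^ c.val by rw [up_pow, mul_one, ZMod.natCast_rightInverse c], map_pow, ha,
      up_pow, ZMod.natCast_rightInverse c]
  have hl : ∀ c, α (lo c) = lo (c * b) := fun c => by
    rw [show lo c = lo 1 ^ c.val by rw [lo_pow, mul_one, ZMod.natCast_rightInverse c], map_pow, hb,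
      lo_pow, ZMod.natCast_rightInverse c]
  rw [tor_eq]
  conv_lhs => rw [← tor_eq, tor, map_mul, map_mul, map_mul, hu, hu, hl, hl, up, up, lo, lo,
    ← map_mul, ← map_mul, ← map_mul]
  refine pi_eq_of_entries (Or.inl fun i j => ?_)
  simp only [Matrix.SpecialLinearGroup.coe_mul, coe_uniSL, coe_lowSL, coe_torSL, one_mul, neg_mul]
  rw [(tor_cases a b).resolve_left (not_not_intro hab)]

theorem tor_up : tor * up 1 * tor⁻¹ = up 5 := by
  rw [mul_inv_eq_iff_eq_mul, tor_eq, up, up, ← map_mul, ← map_mul]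
  refine pi_eq_of_entries (Or.inl fun i j => ?_)
  fin_cases i <;> fin_cases j <;>
    simp [Matrix.mul_apply, Fin.sum_univ_two, coe_uniSL, coe_torSL] <;> decide

theorem tor_lo : tor * lo 1 * tor⁻¹ = lo 9 := by
  rw [mul_inv_eq_iff_eq_mul, tor_eq, lo, lo, ← map_mul, ← map_mul]
  refine pi_eq_of_entries (Or.inl fun i j => ?_)
  fin_cases i <;> fin_cases j <;>
    simp [Matrix.mul_apply, Fin.sum_univ_two, coe_lowSL, coe_torSL] <;> decide

theorem orderOf_tor : orderOf tor = 5 := by
  haveI : Fact (Nat.Prime 5) := ⟨by norm_num⟩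
  refine orderOf_eq_prime ?_ ?_
  · rw [tor_eq, ← map_pow, ← map_one (pi (ZMod 11))]
    refine pi_eq_of_entries (Or.inl fun i j => ?_)
    fin_cases i <;> fin_cases j <;>
      simp [pow_succ, Matrix.mul_apply, Fin.sum_univ_two, coe_torSL] <;> decide
  · intro h
    have := tor_up
    rw [h, one_mul, inv_one, mul_one] at this
    exact absurd (up_injective this) (by decide)

/-- the involution `[[0, 1], [-1, 0]]` -/
def swSL : SL(2, ZMod 11) := ⟨!![0, 1; -1, 0], by rw [Matrix.det_fin_two]; decide⟩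

/-- the involution `[[1, 3], [3, -1]]` -/
def fourSL : SL(2, ZMod 11) := ⟨!![1, 3; 3, -1], by rw [Matrix.det_fin_two]; decide⟩

theorem coe_swSL : (swSL : Matrix (Fin 2) (Fin 2) (ZMod 11)) = !![0, 1; -1, 0] := rfl

theorem coe_fourSL : (fourSL : Matrix (Fin 2) (Fin 2) (ZMod 11)) = !![1, 3; 3, -1] := rfl

theorem orderOf_sw : orderOf (pi (ZMod 11) swSL) = 2 := by
  rw [orderOf_pi_eq_two (by decide)]
  refine sl_ext (Matrix.ext fun i j => ?_)
  fin_cases i <;> fin_cases j <;>
    simp [Matrix.mul_apply, Fin.sum_univ_two, coe_swSL] <;> decide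

theorem orderOf_four : orderOf (pi (ZMod 11) fourSL) = 2 := by
  rw [orderOf_pi_eq_two (by decide)]
  refine sl_ext (Matrix.ext fun i j => ?_)
  fin_cases i <;> fin_cases j <;>
    simp [Matrix.mul_apply, Fin.sum_univ_two, coe_fourSL] <;> decide

theorem four_commute : Commute (pi (ZMod 11) swSL) (pi (ZMod 11) fourSL) := by
  show _ * _ = _ * _
  rw [← map_mul, ← map_mul]
  refine pi_eq_of_entries (Or.inr fun i j => ?_)
  fin_cases i <;> fin_cases j <;>
    simp [Matrix.mul_apply, Fin.sum_univ_two, coe_swSL, coe_fourSL] <;> decide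

theorem four_ne : pi (ZMod 11) swSL ≠ pi (ZMod 11) fourSL := by
  intro h
  rcases entries_of_pi_eq h with h | h
  · have := h 0 0
    simp [coe_swSL, coe_fourSL] at this
  · have := h 0 0
    simp [coe_swSL, coe_fourSL] at this

theorem sw_up : pi (ZMod 11) swSL * up 1 * (pi (ZMod 11) swSL)⁻¹ = lo (-1) := by
  rw [mul_inv_eq_iff_eq_mul, up, lo, ← map_mul, ← map_mul]
  refine pi_eq_of_entries (Or.inl fun i j => ?_)
  fin_cases i <;> fin_cases j <;>
    simp [Matrix.mul_apply, Fin.sum_univ_two, coe_uniSL, coe_lowSL, coe_swSL]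

theorem sw_lo : pi (ZMod 11) swSL * lo 1 * (pi (ZMod 11) swSL)⁻¹ = up (-1) := by
  rw [mul_inv_eq_iff_eq_mul, up, lo, ← map_mul, ← map_mul]
  refine pi_eq_of_entries (Or.inl fun i j => ?_)
  fin_cases i <;> fin_cases j <;>
    simp [Matrix.mul_apply, Fin.sum_univ_two, coe_uniSL, coe_lowSL, coe_swSL]

theorem sw_map_U : U.map (MulAut.conj (pi (ZMod 11) swSL)).toMonoidHom = V := by
  refine Subgroup.eq_of_le_of_card_ge ?_
    (le_of_eq (by rw [card_V, Subgroup.card_map_of_injective (MulAut.conj _).injective, card_U]))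
  rw [U, MonoidHom.map_zpowers, Subgroup.zpowers_le]
  show pi (ZMod 11) swSL * up 1 * (pi (ZMod 11) swSL)⁻¹ ∈ V
  rw [sw_up]
  exact lo_mem _

theorem sw_map_V : V.map (MulAut.conj (pi (ZMod 11) swSL)).toMonoidHom = U := by
  refine Subgroup.eq_of_le_of_card_ge ?_
    (le_of_eq (by rw [card_U, Subgroup.card_map_of_injective (MulAut.conj _).injective, card_V]))
  rw [V, MonoidHom.map_zpowers, Subgroup.zpowers_le]
  show pi (ZMod 11) swSL * lo 1 * (pi (ZMod 11) swSL)⁻¹ ∈ U
  rw [sw_lo]
  exact up_mem _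

theorem orderOf_prod_two : orderOf (up 1 * lo (-2)) = 2 := by
  rw [up, lo, ← map_mul, orderOf_pi_eq_two (by decide)]
  refine sl_ext (Matrix.ext fun i j => ?_)
  fin_cases i <;> fin_cases j <;>
    simp [Matrix.mul_apply, Fin.sum_univ_two, coe_uniSL, coe_lowSL] <;> decide

theorem orderOf_prod_three : orderOf (up 1 * lo (-1)) = 3 := by
  haveI : Fact (Nat.Prime 3) := ⟨Nat.prime_three⟩
  rw [up, lo, ← map_mul]
  refine orderOf_eq_prime ?_ ?_
  · rw [← map_pow, ← map_one (pi (ZMod 11))]
    refine pi_eq_of_entries (Or.inr fun i j => ?_)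
    fin_cases i <;> fin_cases j <;>
      simp [pow_succ, Matrix.mul_apply, Fin.sum_univ_two, coe_uniSL, coe_lowSL] <;> decide
  · intro h
    rw [← map_one (pi (ZMod 11))] at h
    rcases entries_of_pi_eq h with h | h
    · have := h 0 1
      simp [Matrix.mul_apply, Fin.sum_univ_two, coe_uniSL, coe_lowSL] at this
    · have := h 0 1
      simp [Matrix.mul_apply, Fin.sum_univ_two, coe_uniSL, coe_lowSL] at this

theorem outer_cases : ∀ a : ZMod 11, ∀ b : ZMod 11, a * b ≠ 1 ∨ a ^ 5 = 1 ∨ ∃ c : ZMod 11,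
    c * c = -b ∧ ((!![1, 0; -(a * c), 1] * !![1, -b; 0, 1] * !![1, 0; a * c, 1] :
        Matrix (Fin 2) (Fin 2) (ZMod 11))) = !![1, c; 0, 1] * !![1, 0; -1, 1] * !![1, -c; 0, 1] := by
  decide +kernel

theorem sw_conj_up (c : ZMod 11) : MulAut.conj (pi (ZMod 11) swSL) (up c) = lo (-c) := by
  rw [show up c = up 1 ^ c.val by rw [up_pow, mul_one, ZMod.natCast_rightInverse c], map_pow,
    MulAut.conj_apply, sw_up, lo_pow, ZMod.natCast_rightInverse c, mul_neg, mul_one]

theorem sw_conj_lo (c : ZMod 11) : MulAut.conj (pi (ZMod 11) swSL) (lo c) = up (-c) := by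
  rw [show lo c = lo 1 ^ c.val by rw [lo_pow, mul_one, ZMod.natCast_rightInverse c], map_pow,
    MulAut.conj_apply, sw_lo, up_pow, ZMod.natCast_rightInverse c, mul_neg, mul_one]

/-- The swap followed by a nonsquare scaling fixes a member. -/
theorem outer_fix (β : MulAut M) (a b : ZMod 11) (ha : β (up 1) = up a) (hb : β (lo 1) = lo b)
    (hab : a * b = 1) (ha5 : a ^ 5 ≠ 1) :
    ∃ S : Subgroup M, Nat.card S = 11 ∧
      S.map (MulAut.conj (pi (ZMod 11) swSL) * β).toMonoidHom = S := by
  obtain ⟨c, -, hm⟩ := ((outer_cases a b).resolve_left (not_not_intro hab)).resolve_left ha5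
  refine ⟨V.map (MulAut.conj (up c)).toMonoidHom,
    by rw [Subgroup.card_map_of_injective (MulAut.conj (up c)).injective, card_V], ?_⟩
  have hu : ∀ x, β (up x) = up (x * a) := fun x => by
    rw [show up x = up 1 ^ x.val by rw [up_pow, mul_one, ZMod.natCast_rightInverse x], map_pow, ha,
      up_pow, ZMod.natCast_rightInverse x]
  have himg : (MulAut.conj (pi (ZMod 11) swSL) * β) (up c * lo 1 * (up c)⁻¹) =
      up c * lo (-1) * (up c)⁻¹ := by
    rw [MulAut.mul_apply, up_inv]
    simp only [map_mul, hu, hb, sw_conj_up, sw_conj_lo, neg_mul, neg_neg]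
    rw [mul_comm c a]
    rw [up, up, up, lo, lo, lo, ← map_mul, ← map_mul, ← map_mul, ← map_mul]
    refine pi_eq_of_entries (Or.inl fun i j => ?_)
    simp only [Matrix.SpecialLinearGroup.coe_mul, coe_uniSL, coe_lowSL]
    rw [hm]
  refine Subgroup.eq_of_le_of_card_ge ?_ (le_of_eq ?_)
  · rw [Subgroup.map_map, V, MonoidHom.map_zpowers, Subgroup.zpowers_le]
    simp only [MonoidHom.coe_comp, Function.comp_apply, MulEquiv.coe_toMonoidHom,
      MulAut.conj_apply (up c)]
    rw [himg]
    exact ⟨lo (-1), by rw [← V]; exact lo_mem _, rfl⟩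
  · generalize MulAut.conj (pi (ZMod 11) swSL) * β = γ
    exact (Subgroup.card_map_of_injective γ.injective).symm

end Model

/-- Automorphisms transported along an isomorphism. -/
def transportAut {X Y : Type*} [Group X] [Group Y] (e : X ≃* Y) (α : MulAut X) : MulAut Y :=
  e.symm.trans ((α : X ≃* X).trans e)

namespace IsL

variable {X : Type u} [Group X]

theorem simple (h : IsL X) : IsSimpleGroup X := by
  obtain ⟨e⟩ := h
  haveI := Model.simple
  haveI : Nontrivial X := e.toEquiv.nontrivial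
  exact IsSimpleGroup.isSimpleGroup_of_surjective e.symm.toMonoidHom e.symm.surjective

theorem card (h : IsL X) : Nat.card X = 660 := by
  obtain ⟨e⟩ := h
  rw [Nat.card_congr e.toEquiv, Model.card]

/-- Normal form of two subgroups of order eleven. -/
theorem exists_std (h : IsL X) (Q R : Subgroup X) (hQ : Nat.card Q = 11) (hR : Nat.card R = 11)
    (hne : Q ≠ R) :
    ∃ e : X ≃* Model.M, Q.map e.toMonoidHom = Model.U ∧ R.map e.toMonoidHom = Model.V := by
  obtain ⟨e⟩ := h
  obtain ⟨g, hU, hV⟩ := Model.exists_std (Q.map e.toMonoidHom) (R.map e.toMonoidHom)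
    (by rw [Subgroup.card_map_of_injective e.injective, hQ])
    (by rw [Subgroup.card_map_of_injective e.injective, hR])
    (fun hh => hne (Subgroup.map_injective e.injective hh))
  refine ⟨e.trans (MulAut.conj g⁻¹), ?_, ?_⟩ <;>
    rw [show (e.trans (MulAut.conj g⁻¹)).toMonoidHom = (MulAut.conj g⁻¹).toMonoidHom.comp e.toMonoidHom
      from rfl, ← Subgroup.map_map]
  · rw [← hU, ← map_conj_mul, inv_mul_cancel, map_conj_one]
  · rw [← hV, ← map_conj_mul, inv_mul_cancel, map_conj_one]

/-- In standard position an automorphism normalising two members is a pair of inverse scalars. -/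
theorem exists_scales (h : IsL X) (α : MulAut X) (Q R : Subgroup X) (hQ : Nat.card Q = 11)
    (hR : Nat.card R = 11) (hne : Q ≠ R) (hmQ : Q.map α.toMonoidHom = Q)
    (hmR : R.map α.toMonoidHom = R) :
    ∃ (e : X ≃* Model.M) (a b : ZMod 11), Q.map e.toMonoidHom = Model.U ∧
      R.map e.toMonoidHom = Model.V ∧ transportAut e α (Model.up 1) = Model.up a ∧
      transportAut e α (Model.lo 1) = Model.lo b ∧ a * b = 1 := by
  obtain ⟨e, hU, hV⟩ := h.exists_std Q R hQ hR hne
  have hm : ∀ S : Subgroup X, S.map α.toMonoidHom = S →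
      (S.map e.toMonoidHom).map (transportAut e α).toMonoidHom = S.map e.toMonoidHom := by
    intro S hS
    conv_rhs => rw [← hS]
    rw [Subgroup.map_map, Subgroup.map_map]
    congr 1
    ext x
    simp [transportAut]
  have hU' := hm Q hmQ
  rw [hU] at hU'
  have hV' := hm R hmR
  rw [hV] at hV'
  obtain ⟨a, ha⟩ := Model.exists_scale_U hU'
  obtain ⟨b, hb⟩ := Model.exists_scale_V hV'
  exact ⟨e, a, b, hU, hV, ha, hb, Model.scale_mul_eq_one _ a b ha hb⟩

theorem transport_eq_pow {Y : Type*} [Group Y] (e : X ≃* Y) (α : MulAut X) (x : X) (k : ℕ)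
    (hx : α x = x ^ k) : transportAut e α (e x) = e x ^ k := by
  show e (α (e.symm (e x))) = _
  rw [e.symm_apply_apply, hx, map_pow]

/-- The exponents of an automorphism on the two members of a pair are inverse. -/
theorem exponent (h : IsL X) (α : MulAut X) (Q R : Subgroup X) (hQ : Nat.card Q = 11)
    (hR : Nat.card R = 11) (hne : Q ≠ R) (hmR : R.map α.toMonoidHom = R) (k : ℕ)
    (hQk : ∀ x ∈ Q, α x = x ^ k) : ∀ y ∈ R, α y ^ k = y := by
  haveI : Finite X := Nat.finite_of_card_ne_zero (by rw [h.card]; norm_num)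
  have hmQ : Q.map α.toMonoidHom = Q := by
    refine Subgroup.eq_of_le_of_card_ge ?_
      (le_of_eq (Subgroup.card_map_of_injective α.injective).symm)
    rintro _ ⟨x, hx, rfl⟩
    show α x ∈ Q
    rw [hQk x hx]
    exact pow_mem hx k
  obtain ⟨e, a, b, hU, hV, ha, hb, hab⟩ := h.exists_scales α Q R hQ hR hne hmQ hmR
  have hk : a = k := by
    have hmem : Model.up 1 ∈ Q.map e.toMonoidHom := by rw [hU]; exact Subgroup.mem_zpowers _
    obtain ⟨x, hx, hxe⟩ := hmem
    have h1 := transport_eq_pow e α x k (hQk x hx)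
    rw [show e x = Model.up 1 from hxe, ha, Model.up_pow, mul_one] at h1
    exact Model.up_injective h1
  intro y hy
  have hyV : e y ∈ Model.V := by rw [← hV]; exact ⟨y, hy, rfl⟩
  obtain ⟨c, hc⟩ := Model.mem_V hyV
  apply e.injective
  rw [map_pow, show e (α y) = transportAut e α (e y) from by simp [transportAut], hc]
  have hcv : Model.lo c = Model.lo 1 ^ c.val := by
    rw [Model.lo_pow, mul_one, ZMod.natCast_rightInverse c]
  conv_lhs => rw [hcv, map_pow, hb, Model.lo_pow, Model.lo_pow, ← hk,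
    ZMod.natCast_rightInverse c, show a * (c * b) = a * b * c by ring, hab, one_mul]

/-- An automorphism centralising one member and normalising another is trivial. -/
theorem aut_eq_one (h : IsL X) (α : MulAut X) (Q R : Subgroup X) (hQ : Nat.card Q = 11)
    (hR : Nat.card R = 11) (hne : Q ≠ R) (hfix : ∀ x ∈ Q, α x = x)
    (hmap : R.map α.toMonoidHom = R) : α = 1 := by
  have hR1 := h.exponent α Q R hQ hR hne hmap 1 (fun x hx => by rw [hfix x hx, pow_one])
  haveI : Finite X := Nat.finite_of_card_ne_zero (by rw [h.card]; norm_num)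
  obtain ⟨e, hU, hV⟩ := h.exists_std Q R hQ hR hne
  have htop : Q ⊔ R = ⊤ := by
    apply Subgroup.map_injective (f := e.toMonoidHom) e.injective
    rw [Subgroup.map_sup, hU, hV, Subgroup.map_top_of_surjective _ e.surjective, Model.sup_eq_top]
  ext x
  have hle : Q ⊔ R ≤ α.toMonoidHom.eqLocus (MonoidHom.id X) :=
    sup_le (fun x hx => hfix x hx) (fun x hx => by
      show α x = x
      simpa using hR1 x hx)
  exact hle (htop ▸ Subgroup.mem_top x)

/-- An automorphism inverting two members gives an involution `g * α g`. -/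
theorem inverting_sq (h : IsL X) (α : MulAut X) (Q R : Subgroup X) (hQ : Nat.card Q = 11)
    (hR : Nat.card R = 11) (hne : Q ≠ R) (hiQ : ∀ x ∈ Q, α x = x⁻¹) (hiR : ∀ x ∈ R, α x = x⁻¹) :
    ∃ g : X, orderOf (g * α g) = 2 := by
  obtain ⟨e, hU, hV⟩ := h.exists_std Q R hQ hR hne
  have key : ∀ (S : Subgroup X) (v : Model.M), (∀ x ∈ S, α x = x⁻¹) → v ∈ S.map e.toMonoidHom →
      transportAut e α v = v⁻¹ := by
    rintro S _ hS ⟨x, hx, rfl⟩
    show e (α (e.symm (e x))) = (e x)⁻¹
    rw [e.symm_apply_apply, hS x hx, map_inv]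
  obtain ⟨g, hg⟩ := Model.inverting_sq (transportAut e α)
    (by rw [key Q _ hiQ (hU ▸ Subgroup.mem_zpowers _), Model.up_inv])
    (by rw [key R _ hiR (hV ▸ Subgroup.mem_zpowers _), Model.lo_inv])
  refine ⟨e.symm g, ?_⟩
  rw [← MulEquiv.orderOf_eq e, map_mul, e.apply_symm_apply]
  exact hg

/-- The torus of a pair: of order five, acting by fifth powers on `Q`, fixed by every automorphism
normalising both members. -/
theorem exists_torus (h : IsL X) (Q R : Subgroup X) (hQ : Nat.card Q = 11) (hR : Nat.card R = 11)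
    (hne : Q ≠ R) :
    ∃ f : X, orderOf f = 5 ∧ (∀ x ∈ Q, f * x * f⁻¹ = x ^ 5) ∧ (∀ y ∈ R, f * y * f⁻¹ = y ^ 9) ∧
      ∀ α : MulAut X, Q.map α.toMonoidHom = Q → R.map α.toMonoidHom = R → α f = f := by
  obtain ⟨e, hU, hV⟩ := h.exists_std Q R hQ hR hne
  refine ⟨e.symm Model.tor, by rw [MulEquiv.orderOf_eq, Model.orderOf_tor], fun x hx => ?_,
    fun y hy => ?_, fun α hmQ hmR => ?_⟩
  · obtain ⟨c, hc⟩ := Model.mem_U (show e x ∈ Model.U by rw [← hU]; exact ⟨x, hx, rfl⟩)
    apply e.injective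
    rw [map_mul, map_mul, map_inv, e.apply_symm_apply, map_pow, hc,
      show Model.up c = Model.up 1 ^ c.val by rw [Model.up_pow, mul_one, ZMod.natCast_rightInverse c],
      ← conj_pow, Model.tor_up, ← pow_mul, Model.up_pow, Model.up_pow, Nat.cast_mul, mul_one]
    rfl
  · obtain ⟨c, hc⟩ := Model.mem_V (show e y ∈ Model.V by rw [← hV]; exact ⟨y, hy, rfl⟩)
    apply e.injective
    rw [map_mul, map_mul, map_inv, e.apply_symm_apply, map_pow, hc,
      show Model.lo c = Model.lo 1 ^ c.val by rw [Model.lo_pow, mul_one, ZMod.natCast_rightInverse c],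
      ← conj_pow, Model.tor_lo, ← pow_mul, Model.lo_pow, Model.lo_pow, Nat.cast_mul, mul_one]
    rfl
  · have hm : ∀ S : Subgroup X, S.map α.toMonoidHom = S →
        (S.map e.toMonoidHom).map (transportAut e α).toMonoidHom = S.map e.toMonoidHom := by
      intro S hS
      conv_rhs => rw [← hS]
      rw [Subgroup.map_map, Subgroup.map_map]
      congr 1
      ext x
      simp [transportAut]
    have hU' := hm Q hmQ
    rw [hU] at hU'
    have hV' := hm R hmR
    rw [hV] at hV'
    obtain ⟨a, ha⟩ := Model.exists_scale_U hU'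
    obtain ⟨b, hb⟩ := Model.exists_scale_V hV'
    have hfix := Model.tor_fixed _ a b ha hb (Model.scale_mul_eq_one _ a b ha hb)
    apply e.injective
    rw [e.apply_symm_apply]
    exact hfix

/-- An involution swapping two members. -/
theorem exists_swap (h : IsL X) (Q R : Subgroup X) (hQ : Nat.card Q = 11) (hR : Nat.card R = 11)
    (hne : Q ≠ R) :
    ∃ j : X, orderOf j = 2 ∧ Q.map (MulAut.conj j).toMonoidHom = R ∧
      R.map (MulAut.conj j).toMonoidHom = Q := by
  obtain ⟨e, hU, hV⟩ := h.exists_std Q R hQ hR hne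
  refine ⟨e.symm (pi (ZMod 11) Model.swSL), by rw [MulEquiv.orderOf_eq, Model.orderOf_sw], ?_, ?_⟩ <;>
    apply Subgroup.map_injective (f := e.toMonoidHom) e.injective <;>
    rw [Subgroup.map_map,
      show e.toMonoidHom.comp (MulAut.conj (e.symm (pi (ZMod 11) Model.swSL))).toMonoidHom =
        (MulAut.conj (pi (ZMod 11) Model.swSL)).toMonoidHom.comp e.toMonoidHom from
        MonoidHom.ext fun x => by simp,
      ← Subgroup.map_map, hU, hV]
  · exact Model.sw_map_U
  · exact Model.sw_map_V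

/-- There is a four group. -/
theorem exists_four (h : IsL X) :
    ∃ s t : X, orderOf s = 2 ∧ orderOf t = 2 ∧ s ≠ t ∧ Commute s t := by
  obtain ⟨e⟩ := h
  exact ⟨e.symm (pi (ZMod 11) Model.swSL), e.symm (pi (ZMod 11) Model.fourSL),
    by rw [MulEquiv.orderOf_eq, Model.orderOf_sw], by rw [MulEquiv.orderOf_eq, Model.orderOf_four],
    fun he => Model.four_ne (e.symm.injective he),
    Model.four_commute.map e.symm.toMonoidHom⟩

theorem product_of_model (e : X ≃* Model.M) (g : Model.M) (c : ZMod 11) :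
    ∃ (Q R : Subgroup X) (x y : X), Nat.card Q = 11 ∧ Nat.card R = 11 ∧ Q ≠ R ∧ x ∈ Q ∧ y ∈ R ∧
      e (x * y) = g * (Model.up 1 * Model.lo c) * g⁻¹ := by
  refine ⟨(Model.U.map (MulAut.conj g).toMonoidHom).map e.symm.toMonoidHom,
    (Model.V.map (MulAut.conj g).toMonoidHom).map e.symm.toMonoidHom,
    e.symm (g * Model.up 1 * g⁻¹), e.symm (g * Model.lo c * g⁻¹), ?_, ?_, ?_, ?_, ?_, ?_⟩
  · rw [Subgroup.card_map_of_injective e.symm.injective,
      Subgroup.card_map_of_injective (MulAut.conj g).injective, Model.card_U]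
  · rw [Subgroup.card_map_of_injective e.symm.injective,
      Subgroup.card_map_of_injective (MulAut.conj g).injective, Model.card_V]
  · intro he
    have he' := Subgroup.map_injective (MulAut.conj g).injective
      (Subgroup.map_injective e.symm.injective he)
    have hU : Model.U = ⊤ := by rw [← Model.sup_eq_top, ← he', sup_idem]
    have hc := Model.card
    rw [← Nat.card_congr (Subgroup.topEquiv (G := Model.M)).toEquiv, ← hU, Model.card_U] at hc
    omega
  · exact ⟨_, ⟨Model.up 1, Subgroup.mem_zpowers _, rfl⟩, rfl⟩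
  · exact ⟨_, ⟨Model.lo c, Model.lo_mem c, rfl⟩, rfl⟩
  · rw [map_mul, e.apply_symm_apply, e.apply_symm_apply]
    group

/-- An involution is a product of elements of two members. -/
theorem involution_product (h : IsL X) {z : X} (hz : orderOf z = 2) :
    ∃ (Q R : Subgroup X) (x y : X), Nat.card Q = 11 ∧ Nat.card R = 11 ∧ Q ≠ R ∧ x ∈ Q ∧ y ∈ R ∧
      x * y = z := by
  obtain ⟨e⟩ := h
  obtain ⟨g, hg⟩ := isConj_iff.1 (involutions_isConj (by decide) _ _ Model.orderOf_prod_two
    (by rw [MulEquiv.orderOf_eq, hz] : orderOf (e z) = 2))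
  obtain ⟨Q, R, x, y, hQ, hR, hne, hx, hy, he⟩ := product_of_model e g (-2)
  exact ⟨Q, R, x, y, hQ, hR, hne, hx, hy, e.injective (he.trans hg)⟩

/-- Some element of order three is a product of elements of two members. -/
theorem three_product (h : IsL X) :
    ∃ (Q R : Subgroup X) (x y : X), Nat.card Q = 11 ∧ Nat.card R = 11 ∧ Q ≠ R ∧ x ∈ Q ∧ y ∈ R ∧
      orderOf (x * y) = 3 := by
  obtain ⟨e⟩ := h
  obtain ⟨Q, R, x, y, hQ, hR, hne, hx, hy, he⟩ := product_of_model e 1 (-1)
  refine ⟨Q, R, x, y, hQ, hR, hne, hx, hy, ?_⟩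
  rw [← MulEquiv.orderOf_eq e, he, one_mul, inv_one, mul_one, Model.orderOf_prod_three]

/-- An inner swap such that, followed by a nonsquare scaling, it fixes a member. -/
theorem exists_swap_outer (h : IsL X) (Q R : Subgroup X) (hQ : Nat.card Q = 11)
    (hR : Nat.card R = 11) (hne : Q ≠ R) :
    ∃ j : X, orderOf j = 2 ∧ Q.map (MulAut.conj j).toMonoidHom = R ∧
      R.map (MulAut.conj j).toMonoidHom = Q ∧
      ∀ α : MulAut X, Q.map α.toMonoidHom = Q → R.map α.toMonoidHom = R →
        ∀ k : ℕ, (∀ x ∈ Q, α x = x ^ k) → ¬ k ^ 5 ≡ 1 [MOD 11] →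
          ∃ S : Subgroup X, Nat.card S = 11 ∧ S.map (MulAut.conj j * α).toMonoidHom = S := by
  obtain ⟨e, hU, hV⟩ := h.exists_std Q R hQ hR hne
  have hmap : ∀ g : Model.M, ∀ S : Subgroup X,
      (S.map (MulAut.conj (e.symm g)).toMonoidHom).map e.toMonoidHom =
        (S.map e.toMonoidHom).map (MulAut.conj g).toMonoidHom := fun g S => by
    rw [Subgroup.map_map, Subgroup.map_map]
    congr 1
    ext x
    simp
  refine ⟨e.symm (pi (ZMod 11) Model.swSL), by rw [MulEquiv.orderOf_eq, Model.orderOf_sw], ?_, ?_,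
    fun α hmQ hmR k hk hk5 => ?_⟩
  · apply Subgroup.map_injective (f := e.toMonoidHom) e.injective
    rw [hmap, hU, hV, Model.sw_map_U]
  · apply Subgroup.map_injective (f := e.toMonoidHom) e.injective
    rw [hmap, hU, hV, Model.sw_map_V]
  · have hm : ∀ S : Subgroup X, S.map α.toMonoidHom = S →
        (S.map e.toMonoidHom).map (transportAut e α).toMonoidHom = S.map e.toMonoidHom := by
      intro S hS
      conv_rhs => rw [← hS]
      rw [Subgroup.map_map, Subgroup.map_map]
      congr 1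
      ext x
      simp [transportAut]
    have hU' := hm Q hmQ
    rw [hU] at hU'
    have hV' := hm R hmR
    rw [hV] at hV'
    obtain ⟨a, ha⟩ := Model.exists_scale_U hU'
    obtain ⟨b, hb⟩ := Model.exists_scale_V hV'
    have hak : a = k := by
      have hmem : Model.up 1 ∈ Q.map e.toMonoidHom := by rw [hU]; exact Subgroup.mem_zpowers _
      obtain ⟨x, hx, hxe⟩ := hmem
      have h1 := transport_eq_pow e α x k (hk x hx)
      rw [show e x = Model.up 1 from hxe, ha, Model.up_pow, mul_one] at h1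
      exact Model.up_injective h1
    obtain ⟨S, hS, hSm⟩ := Model.outer_fix (transportAut e α) a b ha hb
      (Model.scale_mul_eq_one _ a b ha hb) (fun ha5 => hk5 (by
        rw [hak, ← Nat.cast_pow, ← Nat.cast_one, ZMod.natCast_eq_natCast_iff] at ha5
        exact ha5))
    refine ⟨S.map e.symm.toMonoidHom, by rw [Subgroup.card_map_of_injective e.symm.injective, hS], ?_⟩
    conv_rhs => rw [← hSm]
    rw [Subgroup.map_map, Subgroup.map_map]
    congr 1
    ext x
    simp [transportAut]

end IsL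

end Cfsg.Agent.ElevenPairs
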