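import Cfsg.Agent.Lib.ElevenPairs.Defs
import Cfsg.Agent.Lib.ElevenPairs.LModel
import Cfsg.Agent.Lib.ElevenPairs.JModel

/-!
# Members, pairs and the pair lemma

An element centralising a member and normalising another centralises their pair, so the members
fixed by an element are all centralised or none is.
-/

set_option autoImplicit false

namespace Cfsg.Agent.ElevenPairs

universe u

/-- `X` is PSL(2,11) or J1. -/
def IsPair (X : Type u) [Group X] : Prop := IsL X ∨ IsJ X

namespace IsPair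

variable {X Y : Type u} [Group X] [Group Y]

theorem congr (e : X ≃* Y) (h : IsPair X) : IsPair Y := by
  rcases h with ⟨⟨f⟩⟩ | ⟨⟨f⟩⟩
  · exact Or.inl ⟨e.symm.trans f⟩
  · exact Or.inr ⟨e.symm.trans f⟩

theorem finite (h : IsPair X) : Finite X := by
  rcases h with h | ⟨⟨e⟩⟩
  · exact Nat.finite_of_card_ne_zero (by rw [h.card]; norm_num)
  · exact Finite.of_equiv _ e.symm.toEquiv

theorem simple (h : IsPair X) : IsSimpleGroup X := by
  haveI := h.finite
  rcases h with h | h
  · exact h.simple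
  · exact h.facts.1

theorem card_cases (h : IsPair X) : Nat.card X = 660 ∨ Nat.card X = 175560 := by
  haveI := h.finite
  rcases h with h | h
  · exact Or.inl h.card
  · exact Or.inr h.facts.2

theorem aut_eq_one (h : IsPair X) (α : MulAut X) (Q R : Subgroup X) (hQ : Nat.card Q = 11)
    (hR : Nat.card R = 11) (hne : Q ≠ R) (hfix : ∀ x ∈ Q, α x = x)
    (hmap : R.map α.toMonoidHom = R) : α = 1 := by
  haveI := h.finite
  rcases h with h | h
  · exact h.aut_eq_one α Q R hQ hR hne hfix hmap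
  · exact h.aut_eq_one α Q R hQ hR hne hfix hmap

theorem factorization (h : IsPair X) : (Nat.card X).factorization 11 = 1 := by
  obtain ⟨m, hm, hd⟩ : ∃ m, Nat.card X = 11 * m ∧ ¬ 11 ∣ m := by
    rcases h.card_cases with h | h
    · exact ⟨60, h, by norm_num⟩
    · exact ⟨15960, h, by norm_num⟩
  have hm0 : m ≠ 0 := fun h0 => hd (h0 ▸ dvd_zero 11)
  rw [hm, Nat.factorization_mul (by norm_num) hm0, Finsupp.add_apply,
    Nat.Prime.factorization_self (by norm_num), Nat.factorization_eq_zero_of_not_dvd hd]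

/-- Subgroups of order eleven are conjugate. -/
theorem exists_conj (h : IsPair X) (Q R : Subgroup X) (hQ : Nat.card Q = 11) (hR : Nat.card R = 11) :
    ∃ g : X, Q.map (MulAut.conj g).toMonoidHom = R := by
  haveI := h.finite
  haveI : Fact (Nat.Prime 11) := fact_prime_eleven
  let SQ : Sylow 11 X := Sylow.ofCard Q (by rw [hQ, h.factorization, pow_one])
  let SR : Sylow 11 X := Sylow.ofCard R (by rw [hR, h.factorization, pow_one])
  obtain ⟨g, hg⟩ := MulAction.exists_smul_eq X SQ SR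
  exact ⟨g, congrArg Sylow.toSubgroup hg⟩

end IsPair

variable {G : Type u} [Group G] {P : Subgroup G}

theorem smul_eq_iff (g : G) (Q : Mem P) : g • Q = Q ↔ g ∈ Subgroup.normalizer (Q.1 : Set G) := by
  rw [Subtype.ext_iff, Mem.smul_val, Subgroup.mem_normalizer_iff]
  constructor
  · intro h x
    conv_rhs => rw [← h]
    exact (Subgroup.mem_map_iff_mem (f := (MulAut.conj g).toMonoidHom) (MulAut.conj g).injective).symm
  · intro h
    ext y
    rw [Subgroup.mem_map_equiv, MulAut.conj_symm_apply, h]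
    simp [mul_assoc]

theorem member_self (P : Subgroup G) : Member P P := ⟨1, map_conj_one P⟩

theorem Member.trans {A B C : Subgroup G} (h : Member A B) (h' : Member B C) : Member A C := by
  obtain ⟨b, rfl⟩ := h'
  exact h.conj b

theorem Member.symm {A B : Subgroup G} (h : Member A B) : Member B A := by
  obtain ⟨a, rfl⟩ := h
  exact ⟨a⁻¹, by rw [← map_conj_mul, inv_mul_cancel, map_conj_one]⟩

theorem exists_smul_eq (Q R : Mem P) : ∃ g : G, g • Q = R := by
  obtain ⟨g, hg⟩ := Q.2.symm.trans R.2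
  exact ⟨g, Subtype.ext hg⟩

instance instIsPretransitiveMem (P : Subgroup G) : MulAction.IsPretransitive G (Mem P) :=
  ⟨exists_smul_eq⟩

theorem mem_centralizer_smul {g a : G} {Q : Subgroup G}
    (h : g ∈ Subgroup.centralizer (Q : Set G)) :
    a * g * a⁻¹ ∈ Subgroup.centralizer ((Q.map (MulAut.conj a).toMonoidHom : Subgroup G) : Set G) := by
  rw [Subgroup.mem_centralizer_iff]
  rintro _ ⟨x, hx, rfl⟩
  show a * x * a⁻¹ * (a * g * a⁻¹) = a * g * a⁻¹ * (a * x * a⁻¹)
  rw [show a * x * a⁻¹ * (a * g * a⁻¹) = a * (x * g) * a⁻¹ by group,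
    Subgroup.mem_centralizer_iff.1 h x hx]
  group

/-- Members centralised by `g` are fixed by it. -/
theorem smul_eq_of_mem_centralizer {g : G} {Q : Mem P}
    (h : g ∈ Subgroup.centralizer (Q.1 : Set G)) : g • Q = Q :=
  (smul_eq_iff g Q).2 (Subgroup.centralizer_le_normalizer _ h)

namespace Setting

theorem mem_card (h : Setting P) (Q : Mem P) : Nat.card Q.1 = 11 := by
  obtain ⟨g, hg⟩ := Q.2
  rw [← hg, Subgroup.card_map_of_injective (MulAut.conj g).injective, h.card]

theorem pair' (h : Setting P) (Q R : Mem P) (hne : Q ≠ R) : IsPair ↥(Q.1 ⊔ R.1) := by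
  obtain ⟨g, hg⟩ := exists_smul_eq Q (Mem.base P)
  have hQ : Q.1.map (MulAut.conj g).toMonoidHom = P := congrArg Subtype.val hg
  have hne' : (g • R).1 ≠ P := fun e =>
    hne (MulAction.injective g (hg.trans (Subtype.ext e).symm))
  have hmap : (Q.1 ⊔ R.1).map (MulAut.conj g).toMonoidHom = P ⊔ (g • R).1 := by
    rw [Subgroup.map_sup, hQ, Mem.smul_val]
  exact (h.pair _ (g • R).2 hne').elim
    (fun hL => IsPair.congr ((MulEquiv.subgroupCongr hmap.symm).trans
      ((Q.1 ⊔ R.1).equivMapOfInjective _ (MulAut.conj g).injective).symm) (Or.inl hL))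
    (fun hJ => IsPair.congr ((MulEquiv.subgroupCongr hmap.symm).trans
      ((Q.1 ⊔ R.1).equivMapOfInjective _ (MulAut.conj g).injective).symm) (Or.inr hJ))

/-- No member normalises another. -/
theorem eq_of_le_normalizer [Finite G] (h : Setting P) {Q R : Mem P}
    (hle : R.1 ≤ Subgroup.normalizer (Q.1 : Set G)) : R = Q := by
  by_contra hne
  have hX := h.pair' Q R (Ne.symm hne)
  haveI := hX.simple
  have hn : (Q.1.subgroupOf (Q.1 ⊔ R.1)).Normal := by
    rw [Subgroup.normal_subgroupOf_iff_le_normalizer le_sup_left]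
    exact sup_le Subgroup.le_normalizer hle
  rcases IsSimpleGroup.eq_bot_or_eq_top_of_normal _ hn with hb | ht
  · rw [Subgroup.subgroupOf_eq_bot, disjoint_iff, inf_eq_left.2 le_sup_left] at hb
    have := h.mem_card Q
    rw [hb, Subgroup.card_bot] at this
    omega
  · rw [Subgroup.subgroupOf_eq_top] at ht
    refine hne (Subtype.ext ?_)
    exact Subgroup.eq_of_le_of_card_ge (le_sup_right.trans ht)
      (le_of_eq (by rw [h.mem_card, h.mem_card]))

/-- Subgroups of order eleven of a pair are members, conjugate inside it. -/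
theorem exists_conj_in_pair (h : Setting P) (Q R : Mem P) (hne : Q ≠ R) {S : Subgroup G}
    (hS : S ≤ Q.1 ⊔ R.1) (hS11 : Nat.card S = 11) :
    ∃ x ∈ Q.1 ⊔ R.1, Q.1.map (MulAut.conj x).toMonoidHom = S := by
  have hc : ∀ T : Subgroup G, T ≤ Q.1 ⊔ R.1 → Nat.card T = 11 →
      Nat.card (T.subgroupOf (Q.1 ⊔ R.1)) = 11 := fun T hT hT11 => by
    rw [Nat.card_congr (Subgroup.subgroupOfEquivOfLe hT).toEquiv, hT11]
  obtain ⟨x, hx⟩ := (h.pair' Q R hne).exists_conj _ _ (hc Q.1 le_sup_left (h.mem_card Q))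
    (hc S hS hS11)
  refine ⟨x, x.2, ?_⟩
  have hx' := congrArg (Subgroup.map (Q.1 ⊔ R.1).subtype) hx
  rw [Subgroup.map_subgroupOf_eq_of_le hS, Subgroup.map_map] at hx'
  conv_rhs => rw [← hx']
  rw [show (Q.1 ⊔ R.1).subtype.comp (MulAut.conj x).toMonoidHom =
      (MulAut.conj (x : G)).toMonoidHom.comp (Q.1 ⊔ R.1).subtype from MonoidHom.ext fun _ => rfl,
    ← Subgroup.map_map, Subgroup.map_subgroupOf_eq_of_le le_sup_left]

theorem member_of_le_pair (h : Setting P) (Q R : Mem P) (hne : Q ≠ R) {S : Subgroup G}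
    (hS : S ≤ Q.1 ⊔ R.1) (hS11 : Nat.card S = 11) : Member P S := by
  obtain ⟨x, -, rfl⟩ := h.exists_conj_in_pair Q R hne hS hS11
  exact Q.2.conj x

/-- An element centralising a member and normalising another centralises their pair. -/
theorem pair_lemma (h : Setting P) {g : G} {Q R : Mem P} (hne : Q ≠ R)
    (hQ : g ∈ Subgroup.centralizer (Q.1 : Set G)) (hR : g • R = R) :
    g ∈ Subgroup.centralizer ((Q.1 ⊔ R.1 : Subgroup G) : Set G) := by
  have hRn := (smul_eq_iff g R).1 hR
  have hQmap : Q.1.map (MulAut.conj g).toMonoidHom = Q.1 :=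
    congrArg Subtype.val (smul_eq_of_mem_centralizer hQ)
  have hRmap : R.1.map (MulAut.conj g).toMonoidHom = R.1 := congrArg Subtype.val hR
  have hXmap : (Q.1 ⊔ R.1).map (MulAut.conj g).toMonoidHom = Q.1 ⊔ R.1 := by
    rw [Subgroup.map_sup, hQmap, hRmap]
  let α : MulAut ↥(Q.1 ⊔ R.1) :=
    ((Q.1 ⊔ R.1).equivMapOfInjective _ (MulAut.conj g).injective).trans
      (MulEquiv.subgroupCongr hXmap)
  have hα : ∀ x : ↥(Q.1 ⊔ R.1), (α x : G) = g * x * g⁻¹ := fun x => rfl
  have h1 : α = 1 := by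
    refine (h.pair' Q R hne).aut_eq_one α (Q.1.subgroupOf _) (R.1.subgroupOf _)
      (by rw [Nat.card_congr (Subgroup.subgroupOfEquivOfLe le_sup_left).toEquiv, h.mem_card])
      (by rw [Nat.card_congr (Subgroup.subgroupOfEquivOfLe le_sup_right).toEquiv, h.mem_card])
      (fun e => hne (Subtype.ext ?_)) (fun x hx => Subtype.ext ?_) ?_
    · have e' := congrArg (Subgroup.map (Q.1 ⊔ R.1).subtype) e
      rwa [Subgroup.map_subgroupOf_eq_of_le le_sup_left,
        Subgroup.map_subgroupOf_eq_of_le le_sup_right] at e'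
    · rw [hα, ← Subgroup.mem_centralizer_iff.1 hQ (x : G) hx]
      group
    · ext x
      simp only [Subgroup.mem_map, Subgroup.mem_subgroupOf]
      constructor
      · rintro ⟨y, hy, rfl⟩
        show (α y : G) ∈ R.1
        rw [hα]
        exact (Subgroup.mem_normalizer_iff.1 hRn _).1 hy
      · intro hx
        refine ⟨α.symm x, (Subgroup.mem_normalizer_iff.1 hRn _).2 ?_, α.apply_symm_apply x⟩
        rw [← hα, α.apply_symm_apply]
        exact hx
  rw [Subgroup.mem_centralizer_iff]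
  intro x hx
  have h2 : (α ⟨x, hx⟩ : G) = x := by rw [h1]; rfl
  rw [hα] at h2
  exact (eq_mul_inv_iff_mul_eq.1 h2.symm)

theorem fixed_centralizes (h : Setting P) {g : G} {Q R : Mem P}
    (hQ : g ∈ Subgroup.centralizer (Q.1 : Set G)) (hR : g • R = R) :
    g ∈ Subgroup.centralizer (R.1 : Set G) := by
  rcases eq_or_ne Q R with rfl | hne
  · exact hQ
  · exact Subgroup.centralizer_le (show (R.1 : Set G) ⊆ _ from
      (le_sup_right : R.1 ≤ Q.1 ⊔ R.1)) (h.pair_lemma hne hQ hR)

end Setting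

/-- The automorphism of a subgroup given by an element normalising it. -/
noncomputable def conjAut (X : Subgroup G) (g : G) (h : X.map (MulAut.conj g).toMonoidHom = X) :
    MulAut ↥X :=
  (X.equivMapOfInjective _ (MulAut.conj g).injective).trans (MulEquiv.subgroupCongr h)

theorem conjAut_coe (X : Subgroup G) (g : G) (h : X.map (MulAut.conj g).toMonoidHom = X) (x : X) :
    (conjAut X g h x : G) = g * x * g⁻¹ := rfl

theorem conjAut_map (X : Subgroup G) (g : G) (h : X.map (MulAut.conj g).toMonoidHom = X)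
    {Q : Subgroup G} (hle : Q ≤ X) (hQ : Q.map (MulAut.conj g).toMonoidHom = Q) :
    (Q.subgroupOf X).map (conjAut X g h).toMonoidHom = Q.subgroupOf X := by
  ext x
  simp only [Subgroup.mem_map, Subgroup.mem_subgroupOf]
  constructor
  · rintro ⟨y, hy, rfl⟩
    show (conjAut X g h y : G) ∈ Q
    rw [conjAut_coe, ← hQ]
    exact ⟨y, hy, rfl⟩
  · intro hx
    rw [← hQ] at hx
    obtain ⟨z, hz, hzx⟩ := hx
    exact ⟨⟨z, hle hz⟩, hz, Subtype.ext hzx⟩

theorem map_sup_eq_of_smul {g : G} {Q R : Mem P} (hQ : g • Q = Q) (hR : g • R = R) :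
    (Q.1 ⊔ R.1).map (MulAut.conj g).toMonoidHom = Q.1 ⊔ R.1 := by
  rw [Subgroup.map_sup, ← Mem.smul_val, ← Mem.smul_val, hQ, hR]

theorem subgroupOf_ne {X A B : Subgroup G} (hA : A ≤ X) (hB : B ≤ X) (h : A ≠ B) :
    A.subgroupOf X ≠ B.subgroupOf X := fun e => h (by
  have e' := congrArg (Subgroup.map X.subtype) e
  rwa [Subgroup.map_subgroupOf_eq_of_le hA, Subgroup.map_subgroupOf_eq_of_le hB] at e')

namespace Setting

theorem card_subgroupOf (h : Setting P) (Q : Mem P) {X : Subgroup G} (hle : Q.1 ≤ X) :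
    Nat.card (Q.1.subgroupOf X) = 11 := by
  rw [Nat.card_congr (Subgroup.subgroupOfEquivOfLe hle).toEquiv, h.mem_card]

/-- The exponents on the two members of a pair of type L are inverse. -/
theorem exponent_L (h : Setting P) {g : G} {Q R : Mem P} (hne : Q ≠ R)
    (hL : IsL ↥(Q.1 ⊔ R.1)) (hQ : g • Q = Q) (hR : g • R = R) {k : ℕ}
    (hk : ∀ x ∈ Q.1, g * x * g⁻¹ = x ^ k) : ∀ y ∈ R.1, (g * y * g⁻¹) ^ k = y := by
  intro y hy
  have hX := map_sup_eq_of_smul hQ hR
  have h1 := hL.exponent (conjAut _ g hX) (Q.1.subgroupOf _) (R.1.subgroupOf _)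
    (h.card_subgroupOf Q le_sup_left) (h.card_subgroupOf R le_sup_right)
    (subgroupOf_ne le_sup_left le_sup_right fun e => hne (Subtype.ext e))
    (conjAut_map _ g hX le_sup_right (congrArg Subtype.val hR)) k
    (fun x hx => Subtype.ext (by rw [conjAut_coe, SubgroupClass.coe_pow]; exact hk x hx))
    ⟨y, Subgroup.mem_sup_right hy⟩ hy
  have h2 := congrArg Subtype.val h1
  simpa [conjAut_coe] using h2

/-- The torus of a pair of type L. -/
theorem exists_torus_L (h : Setting P) {Q R : Mem P} (hne : Q ≠ R) (hL : IsL ↥(Q.1 ⊔ R.1)) :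
    ∃ f : G, f ∈ Q.1 ⊔ R.1 ∧ orderOf f = 5 ∧ f • Q = Q ∧ f • R = R ∧
      (∀ x ∈ Q.1, f * x * f⁻¹ = x ^ 5) ∧ (∀ y ∈ R.1, f * y * f⁻¹ = y ^ 9) ∧
      ∀ g : G, g • Q = Q → g • R = R → g * f * g⁻¹ = f := by
  obtain ⟨f, hf5, hfQ, hfR, hfix⟩ := hL.exists_torus (Q.1.subgroupOf _) (R.1.subgroupOf _)
    (h.card_subgroupOf Q le_sup_left) (h.card_subgroupOf R le_sup_right)
    (subgroupOf_ne le_sup_left le_sup_right fun e => hne (Subtype.ext e))
  have hn : ∀ (S : Mem P) (k : ℕ), (∀ x ∈ S.1, (f : G) * x * (f : G)⁻¹ = x ^ k) →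
      (f : G) • S = S := by
    intro S k hS
    refine Subtype.ext ?_
    rw [Mem.smul_val]
    haveI : Finite S.1 := Nat.finite_of_card_ne_zero (by rw [h.mem_card]; norm_num)
    refine Subgroup.eq_of_le_of_card_ge ?_
      (le_of_eq (Subgroup.card_map_of_injective (MulAut.conj (f : G)).injective).symm)
    rintro _ ⟨x, hx, rfl⟩
    show (f : G) * x * (f : G)⁻¹ ∈ S.1
    rw [hS x hx]
    exact pow_mem hx k
  have hxQ : ∀ x ∈ Q.1, (f : G) * x * (f : G)⁻¹ = x ^ 5 := fun x hx => by
    simpa using congrArg Subtype.val (hfQ ⟨x, Subgroup.mem_sup_left hx⟩ hx)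
  have hxR : ∀ y ∈ R.1, (f : G) * y * (f : G)⁻¹ = y ^ 9 := fun y hy => by
    simpa using congrArg Subtype.val (hfR ⟨y, Subgroup.mem_sup_right hy⟩ hy)
  refine ⟨f, f.2, by rw [Subgroup.orderOf_coe, hf5], hn Q 5 hxQ, hn R 9 hxR, hxQ, hxR,
    fun g hgQ hgR => ?_⟩
  have hX := map_sup_eq_of_smul hgQ hgR
  exact congrArg Subtype.val (hfix (conjAut _ g hX)
    (conjAut_map _ g hX le_sup_left (congrArg Subtype.val hgQ))
    (conjAut_map _ g hX le_sup_right (congrArg Subtype.val hgR)))

end Setting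

namespace Core

variable [Finite G]

theorem commutator_ne_bot (h : Core P) : ∃ a b : G, a * b ≠ b * a := by
  by_contra hc
  push Not at hc
  refine h.not_normal ⟨fun x hx g => ?_⟩
  rw [hc g x, mul_inv_cancel_right]
  exact hx

theorem center_eq_bot (h : Core P) : Subgroup.center G = ⊥ := by
  haveI := h.simple
  refine (IsSimpleGroup.eq_bot_or_eq_top_of_normal _ inferInstance).resolve_right fun ht => ?_
  obtain ⟨a, b, hab⟩ := h.commutator_ne_bot
  exact hab (Subgroup.mem_center_iff.1 (ht ▸ Subgroup.mem_top b) a)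

theorem perfect (h : Core P) : commutator G = ⊤ := by
  haveI := h.simple
  refine (IsSimpleGroup.eq_bot_or_eq_top_of_normal _ inferInstance).resolve_left fun hb => ?_
  obtain ⟨a, b, hab⟩ := h.commutator_ne_bot
  rw [commutator_def, Subgroup.commutator_eq_bot_iff_le_centralizer] at hb
  exact hab (Subgroup.mem_centralizer_iff.1 (hb (Subgroup.mem_top b)) a (Set.mem_univ a))

theorem pair_ne_top (h : Core P) (Q R : Mem P) : Q.1 ⊔ R.1 ≠ ⊤ := by
  intro htop
  obtain ⟨g, hg⟩ := exists_smul_eq Q (Mem.base P)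
  refine h.proper (g • R).1 (g • R).2 ?_
  have := congrArg (Subgroup.map (MulAut.conj g).toMonoidHom) htop
  rw [Subgroup.map_sup, Subgroup.map_top_of_surjective _ (MulAut.conj g).surjective,
    show Q.1.map (MulAut.conj g).toMonoidHom = P from congrArg Subtype.val hg, ← Mem.smul_val] at this
  exact this

/-- Every member is as good as `P`. -/
theorem change (h : Core P) (Q : Mem P) : Core Q.1 where
  card := h.mem_card Q
  not_normal hn := by
    refine h.not_normal ?_
    obtain ⟨g, hg⟩ := Q.2.symm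
    haveI := hn
    rw [← hg]
    exact Subgroup.Normal.map hn _ (MulAut.conj g).surjective
  gen := by
    rw [← top_le_iff, ← h.gen]
    refine Subgroup.normalClosure_le_normal fun x hx => ?_
    obtain ⟨g, hg⟩ := Q.2.symm
    rw [SetLike.mem_coe, ← hg] at hx
    obtain ⟨y, hy, rfl⟩ := hx
    exact Subgroup.Normal.conj_mem inferInstance y (Subgroup.subset_normalClosure hy) g
  pair R hR hne := h.pair' Q ⟨R, Q.2.trans hR⟩ (fun e => hne (congrArg Subtype.val e).symm)
  simple := h.simple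
  proper R hR := h.pair_ne_top Q ⟨R, Q.2.trans hR⟩
  sub S hS hne A hA B hB hAB := by
    obtain ⟨R', hR', he⟩ := h.sub S (fun C hC => Q.2.trans (hS C hC)) hne A hA B hB hAB
    exact ⟨R', Q.2.symm.trans hR', he⟩

/-- The members centralised by a nontrivial element lie in one pair centralised by it. -/
theorem exists_pair_centralized (h : Core P) {k : G} (hk : k ≠ 1) {Q R : Mem P} (hne : Q ≠ R)
    (hQ : k ∈ Subgroup.centralizer (Q.1 : Set G)) (hR : k • R = R) :
    ∃ R' : Mem P, Q ≠ R' ∧ k ∈ Subgroup.centralizer ((Q.1 ⊔ R'.1 : Subgroup G) : Set G) ∧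
      ∀ S : Mem P, k • S = S → S.1 ≤ Q.1 ⊔ R'.1 := by
  set S : Set (Subgroup G) := {A | Member P A ∧ k ∈ Subgroup.centralizer (A : Set G)} with hS
  have hkS : k ∈ Subgroup.centralizer ((sSup S : Subgroup G) : Set G) := by
    have hle : sSup S ≤ Subgroup.centralizer {k} := sSup_le fun A hA x hx =>
      Subgroup.mem_centralizer_singleton_iff.2 (Subgroup.mem_centralizer_iff.1 hA.2 x hx)
    exact Subgroup.mem_centralizer_iff.2 fun x hx =>
      Subgroup.mem_centralizer_singleton_iff.1 (hle hx)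
  have hne' : sSup S ≠ ⊤ := fun e => hk (by
    rw [e, Subgroup.coe_top, Subgroup.centralizer_univ, h.center_eq_bot] at hkS
    exact Subgroup.mem_bot.1 hkS)
  obtain ⟨R', hR', he⟩ := h.sub S (fun A hA => hA.1) hne' Q.1 ⟨Q.2, hQ⟩ R.1
    ⟨R.2, h.fixed_centralizes hQ hR⟩ (fun e => hne (Subtype.ext e))
  refine ⟨⟨R', hR'⟩, fun e => ?_, he ▸ hkS, fun T hT => ?_⟩
  · have e' : Q.1 = R' := congrArg Subtype.val e
    have hR1 : R.1 ≤ sSup S := le_sSup ⟨R.2, h.fixed_centralizes hQ hR⟩
    rw [he, ← e', sup_idem] at hR1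
    exact hne (Subtype.ext (Subgroup.eq_of_le_of_card_ge hR1
      (le_of_eq (by rw [h.mem_card, h.mem_card])))).symm
  · show T.1 ≤ Q.1 ⊔ R'
    rw [← he]
    exact le_sSup ⟨T.2, h.fixed_centralizes hQ hT⟩

end Core

end Cfsg.Agent.ElevenPairs
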