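import Cfsg.Agent.Lib.ElevenPairs.JCase.Main
import Cfsg.Agent.Lib.ElevenPairs.LCase.Main

/-!
# No minimal counterexample
-/

set_option autoImplicit false

namespace Cfsg.Agent.ElevenPairs

universe u

theorem Core.false {G : Type u} [Group G] [Finite G] {P : Subgroup G} (h : Core P) : False := by
  by_cases hJ : ∃ Q R : Mem P, Q ≠ R ∧ IsJ ↥(Q.1 ⊔ R.1)
  · obtain ⟨Q, R, hne, hJ⟩ := hJ
    exact h.false_of_J Q R hne hJ
  · push Not at hJ
    exact h.false_of_allL fun Q R hne => (h.pair' Q R hne).resolve_right (hJ Q R hne)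

end Cfsg.Agent.ElevenPairs
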