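import Cfsg.Agent.Lib.ElevenPairs.Basic

/-!
# Reduction to the minimal situation

If no group has the minimal configuration `Core`, every group generated by the conjugates of a
non-normal subgroup of order eleven with pairs PSL(2,11) or J1 is itself one of the pairs.
-/

set_option autoImplicit false
set_option linter.style.haveILetI false

namespace Cfsg.Agent.ElevenPairs

open Subgroup
open scoped commutatorElement

universe u

theorem IsPair.perfect {X : Type u} [Group X] (h : IsPair X) : commutator X = ⊤ := by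
  haveI := h.finite
  haveI := h.simple
  refine (IsSimpleGroup.eq_bot_or_eq_top_of_normal _ inferInstance).resolve_left fun hb => ?_
  haveI : Fact (Nat.Prime 11) := fact_prime_eleven
  have h11 : 11 ∣ Nat.card X := by
    rcases h.card_cases with h | h <;> rw [h] <;> norm_num
  obtain ⟨x, hx⟩ := exists_prime_orderOf_dvd_card' 11 h11
  have hcen : zpowers x ≤ center X := by
    rw [_root_.commutator_def, commutator_eq_bot_iff_le_centralizer, coe_top, centralizer_univ] at hb
    exact le_top.trans hb
  haveI : (zpowers x).Normal := ⟨fun a ha g => by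
    rwa [mem_center_iff.1 (hcen ha) g, mul_inv_cancel_right]⟩
  rcases IsSimpleGroup.eq_bot_or_eq_top_of_normal (zpowers x) inferInstance with e | e
  · have := Nat.card_zpowers x
    rw [e, card_bot, hx] at this
    omega
  · have := Nat.card_zpowers x
    rw [e, card_top, hx] at this
    rcases h.card_cases with h | h <;> omega

namespace Setting

variable {G : Type u} [Group G] [Finite G] {P : Subgroup G}

theorem pair_P (h : Setting P) {Q : Subgroup G} (hQ : Member P Q) (hne : Q ≠ P) :
    IsPair ↥(P ⊔ Q) := h.pair Q hQ hne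

theorem exists_other (h : Setting P) : ∃ Q : Subgroup G, Member P Q ∧ Q ≠ P := by
  by_contra hc
  push Not at hc
  exact h.not_normal ⟨fun x hx g => (hc _ ⟨g, rfl⟩) ▸ mem_map_of_mem (MulAut.conj g).toMonoidHom hx⟩

theorem commutator_eq_top (h : Setting P) : commutator G = ⊤ := by
  obtain ⟨Q, hQ, hne⟩ := h.exists_other
  rw [← top_le_iff, ← h.gen]
  refine normalClosure_le_normal fun x hx => ?_
  have hX := (h.pair_P hQ hne).perfect
  have e : Subgroup.map (P ⊔ Q).subtype ⁅(⊤ : Subgroup ↥(P ⊔ Q)), (⊤ : Subgroup ↥(P ⊔ Q))⁆ = P ⊔ Q := by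
    rw [← _root_.commutator_def, hX, ← MonoidHom.range_eq_map, range_subtype]
  rw [map_commutator, ← MonoidHom.range_eq_map, range_subtype] at e
  exact commutator_mono le_top le_top (e.ge (mem_sup_left hx))

/-- A normal subgroup meets a pair trivially unless it contains `P`. -/
theorem inf_pair_eq_bot (h : Setting P) {N : Subgroup G} [N.Normal] (hN : ¬ P ≤ N) {Q : Subgroup G}
    (hQ : Member P Q) (hne : Q ≠ P) : N.subgroupOf (P ⊔ Q) = ⊥ := by
  haveI := (h.pair_P hQ hne).simple
  refine (IsSimpleGroup.eq_bot_or_eq_top_of_normal _ inferInstance).resolve_right fun ht => hN ?_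
  rw [subgroupOf_eq_top] at ht
  exact le_sup_left.trans ht

theorem not_le_of_ne_top (h : Setting P) {N : Subgroup G} [N.Normal] (hN : N ≠ ⊤) : ¬ P ≤ N :=
  fun hle => hN (top_le_iff.1 (h.gen ▸ normalClosure_le_normal hle))

theorem inf_P_eq_bot (h : Setting P) {N : Subgroup G} [N.Normal] (hN : N ≠ ⊤) : P ⊓ N = ⊥ := by
  haveI : Fact (Nat.Prime 11) := fact_prime_eleven
  rcases (Nat.dvd_prime fact_prime_eleven.out).1 (h.card ▸ card_dvd_of_le (inf_le_left : P ⊓ N ≤ P)) with e | e
  · exact card_eq_one.1 e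
  · exact absurd ((eq_of_le_of_card_ge inf_le_left (by rw [e, h.card])).ge.trans inf_le_right)
      (h.not_le_of_ne_top hN)

/-- Proper normal subgroups are central. -/
theorem le_center_of_normal (h : Setting P) (N : Subgroup G) [N.Normal] (hN : N ≠ ⊤) :
    N ≤ center G := by
  have hPN := h.not_le_of_ne_top hN
  have hnorm : N ≤ normalizer (P : Set G) := by
    intro n hn
    refine mem_normalizer_iff_map_conj_eq.2 ?_
    by_contra hne
    set Q := P.map (MulAut.conj n).toMonoidHom with hQdef
    have hQ : Member P Q := ⟨n, rfl⟩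
    let π := QuotientGroup.mk' N
    have hQP : Q.map π = P.map π := by
      rw [hQdef, map_map]
      congr 1
      ext x
      show π (n * x * n⁻¹) = π x
      rw [map_mul, map_mul, map_inv, show π n = 1 from (QuotientGroup.eq_one_iff n).2 hn, one_mul,
        inv_one, mul_one]
    have hinj : Function.Injective (π.comp (P ⊔ Q).subtype) := by
      rw [← MonoidHom.ker_eq_bot_iff, ← MonoidHom.comap_ker, QuotientGroup.ker_mk']
      exact h.inf_pair_eq_bot hPN hQ hne
    have hle :=
      (Nat.card_le_card_of_injective (fun x : ↥(P ⊔ Q) => (⟨π x, mem_map_of_mem π x.2⟩ : ↥((P ⊔ Q).map π)))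
        fun a b hab => hinj (congrArg Subtype.val hab))
    rw [Subgroup.map_sup, hQP, sup_idem] at hle
    have h11 : Nat.card ↥(P.map π) ≤ 11 :=
      h.card ▸ Nat.le_of_dvd Nat.card_pos (card_map_dvd P π)
    have := le_trans hle h11
    rcases (h.pair_P hQ hne).card_cases with e | e <;> omega
  have hcomm : ⁅P, N⁆ = ⊥ := by
    rw [eq_bot_iff, ← h.inf_P_eq_bot hN]
    exact le_inf (commutator_le_of_le_normalizer_aux hnorm) (commutator_le_right P N)
  have hP : P ≤ centralizer (N : Set G) := commutator_eq_bot_iff_le_centralizer.1 hcomm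
  have htop : centralizer (N : Set G) = ⊤ :=
    top_le_iff.1 (h.gen ▸ normalClosure_le_normal hP)
  intro n hn
  exact mem_center_iff.2 fun g => (mem_centralizer_iff.1 (htop ▸ mem_top g) n hn).symm
where
  commutator_le_of_le_normalizer_aux {P N : Subgroup G} (hnorm : N ≤ normalizer (P : Set G)) : ⁅P, N⁆ ≤ P :=
    commutator_le.2 fun p hp n hn => by
      rw [commutatorElement_def, show p * n * p⁻¹ * n⁻¹ = p * (n * p⁻¹ * n⁻¹) by group]
      exact mul_mem hp ((mem_normalizer_iff.1 (hnorm hn) _).1 (inv_mem hp))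

theorem center_ne_top (h : Setting P) : center G ≠ ⊤ := fun e =>
  h.not_normal ⟨fun x hx g => by
    rwa [mem_center_iff.1 (e ▸ mem_top x) g, mul_inv_cancel_right]⟩

/-- The factor group over the centre is again such a group. -/
theorem quotient (h : Setting P) : Setting (P.map (QuotientGroup.mk' (center G))) := by
  set π := QuotientGroup.mk' (center G) with hπ
  have hPZ := h.inf_P_eq_bot h.center_ne_top
  have hinjP : ∀ x ∈ P, π x = 1 → x = 1 := fun x hx e => by
    rw [← mem_bot, ← hPZ]
    exact ⟨hx, (QuotientGroup.eq_one_iff x).1 e⟩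
  refine ⟨?_, fun hn => ?_, ?_, fun Q' hQ' hne => ?_⟩
  · rw [← h.card]
    refine (Nat.card_congr (Equiv.ofBijective (fun x : P => (⟨π x, mem_map_of_mem π x.2⟩ : P.map π))
      ⟨fun a b hab => ?_, fun y => ?_⟩)).symm
    · have e : π (a : G) = π b := congrArg Subtype.val hab
      exact Subtype.ext (inv_mul_eq_one.1 (hinjP _ (mul_mem (inv_mem a.2) b.2)
        (by rw [map_mul, map_inv, e, inv_mul_cancel])))
    · obtain ⟨y, x, hx, rfl⟩ := y
      exact ⟨⟨x, hx⟩, rfl⟩
  · -- then `P ⊔ Z` is normal, abelian, and everything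
    haveI := hn
    have htop : (P.map π).comap π = ⊤ :=
      top_le_iff.1 (h.gen ▸ normalClosure_le_normal (le_comap_map π P))
    refine h.not_normal ⟨fun x hx g => ?_⟩
    have hg : g ∈ (P.map π).comap π := htop ▸ mem_top g
    obtain ⟨p, hp, hpg⟩ := hg
    have hz : p⁻¹ * g ∈ center G := QuotientGroup.eq.1 hpg
    have e : g * x * g⁻¹ = p * x * p⁻¹ := by
      calc g * x * g⁻¹ = p * ((p⁻¹ * g) * x) * (p⁻¹ * g)⁻¹ * p⁻¹ := by group
        _ = p * (x * (p⁻¹ * g)) * (p⁻¹ * g)⁻¹ * p⁻¹ := by rw [mem_center_iff.1 hz x]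
        _ = p * x * p⁻¹ := by group
    rw [e]
    exact mul_mem (mul_mem hp hx) (inv_mem hp)
  · rw [coe_map, ← map_normalClosure _ π (QuotientGroup.mk'_surjective _), h.gen,
      map_top_of_surjective π (QuotientGroup.mk'_surjective _)]
  · obtain ⟨g', rfl⟩ := hQ'
    obtain ⟨g, rfl⟩ := QuotientGroup.mk'_surjective (center G) g'
    set Q := P.map (MulAut.conj g).toMonoidHom
    have hmap : (P.map π).map (MulAut.conj (π g)).toMonoidHom = Q.map π := by
      rw [map_map, map_map]
      congr 1
    have hne' : Q ≠ P := fun e => hne (by rw [hmap, e])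
    have hX := h.inf_pair_eq_bot (h.not_le_of_ne_top h.center_ne_top) (Q := Q) ⟨g, rfl⟩ hne'
    have hinj : Function.Injective (π.comp (P ⊔ Q).subtype) := by
      rw [← MonoidHom.ker_eq_bot_iff, ← MonoidHom.comap_ker, QuotientGroup.ker_mk']
      exact hX
    have e : (π.comp (P ⊔ Q).subtype).range = P.map π ⊔ Q.map π := by
      rw [MonoidHom.range_comp, range_subtype, Subgroup.map_sup]
    rw [hmap]
    exact (h.pair_P ⟨g, rfl⟩ hne').congr
      ((MonoidHom.ofInjective hinj).trans (MulEquiv.subgroupCongr e))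

theorem sub_setting (h : Setting P) {S : Set (Subgroup G)} (hS : ∀ Q ∈ S, Member P Q) {Q R : Subgroup G}
    (hQ : Q ∈ S) (hR : R ∈ S) (hne : Q ≠ R) : Setting (Q.subgroupOf (sSup S)) := by
  set Y := sSup S
  have hle : ∀ T ∈ S, T ≤ Y := fun T hT => le_sSup hT
  have hconj : ∀ T ∈ S, ∃ y : Y, (Q.subgroupOf Y).map (MulAut.conj y).toMonoidHom = T.subgroupOf Y := by
    intro T hT
    by_cases e : Q = T
    · exact ⟨1, by rw [map_conj_one, e]⟩
    obtain ⟨x, hx, hxT⟩ := h.exists_conj_in_pair ⟨Q, hS Q hQ⟩ ⟨T, hS T hT⟩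
      (fun e' => e (congrArg Subtype.val e')) (S := T) le_sup_right (h.mem_card ⟨T, hS T hT⟩)
    have hxY : x ∈ Y := (sup_le (hle Q hQ) (hle T hT)) hx
    refine ⟨⟨x, hxY⟩, map_injective Y.subtype_injective ?_⟩
    rw [map_map, show Y.subtype.comp (MulAut.conj (⟨x, hxY⟩ : Y)).toMonoidHom =
        (MulAut.conj x).toMonoidHom.comp Y.subtype from MonoidHom.ext fun _ => rfl,
      ← map_map, map_subgroupOf_eq_of_le (hle Q hQ), map_subgroupOf_eq_of_le (hle T hT)]
    exact hxT
  refine ⟨?_, fun hn => ?_, ?_, fun W hW hWne => ?_⟩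
  · rw [Nat.card_congr (subgroupOfEquivOfLe (hle Q hQ)).toEquiv, h.mem_card ⟨Q, hS Q hQ⟩]
  · obtain ⟨y, hy⟩ := hconj R hR
    haveI := hn
    have e : (Q.subgroupOf Y).map (MulAut.conj y).toMonoidHom = Q.subgroupOf Y := by
      ext z
      constructor
      · rintro ⟨w, hw, rfl⟩
        exact hn.conj_mem w hw y
      · intro hz
        exact ⟨y⁻¹ * z * y⁻¹⁻¹, hn.conj_mem z hz y⁻¹, by simp [mul_assoc]⟩
    rw [e] at hy
    have := congrArg (map Y.subtype) hy
    rw [map_subgroupOf_eq_of_le (hle Q hQ), map_subgroupOf_eq_of_le (hle R hR)] at this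
    exact hne this
  · apply map_injective Y.subtype_injective
    rw [← MonoidHom.range_eq_map, range_subtype]
    refine le_antisymm (map_subtype_le _) (sSup_le fun T hT => ?_)
    obtain ⟨y, hy⟩ := hconj T hT
    rw [← map_subgroupOf_eq_of_le (hle T hT), ← hy]
    refine map_mono ?_
    rintro _ ⟨w, hw, rfl⟩
    exact Normal.conj_mem inferInstance w (subset_normalClosure hw) y
  · obtain ⟨y, rfl⟩ := hW
    set W := (Q.subgroupOf Y).map (MulAut.conj y).toMonoidHom
    have hWm : W.map Y.subtype = Q.map (MulAut.conj (y : G)).toMonoidHom := by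
      rw [map_map, show Y.subtype.comp (MulAut.conj y).toMonoidHom =
        (MulAut.conj (y : G)).toMonoidHom.comp Y.subtype from MonoidHom.ext fun _ => rfl,
        ← map_map, map_subgroupOf_eq_of_le (hle Q hQ)]
    have hWmem : Member P (W.map Y.subtype) := hWm ▸ (hS Q hQ).conj y
    have hne' : (⟨Q, hS Q hQ⟩ : Mem P) ≠ ⟨W.map Y.subtype, hWmem⟩ := fun e => hWne (by
      refine map_injective Y.subtype_injective ?_
      rw [map_subgroupOf_eq_of_le (hle Q hQ)]
      exact (congrArg Subtype.val e).symm)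
    have hp := h.pair' _ _ hne'
    refine hp.congr ((MulEquiv.subgroupCongr ?_).trans
      ((Q.subgroupOf Y ⊔ W).equivMapOfInjective Y.subtype Y.subtype_injective).symm)
    rw [Subgroup.map_sup, map_subgroupOf_eq_of_le (hle Q hQ)]

/-- If no group has the minimal configuration, some pair is the whole group. -/
theorem exists_top (hno : ∀ (H : Type u) [Group H] [Finite H] (P' : Subgroup H), ¬ Core P')
    (h : Setting P) : ∃ Q : Subgroup G, Member P Q ∧ Q ≠ P ∧ P ⊔ Q = ⊤ := by
  suffices key : ∀ (n : ℕ) (G : Type u) [Group G] [Finite G] (P : Subgroup G), Nat.card G ≤ n →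
      Setting P → ∃ Q : Subgroup G, Member P Q ∧ Q ≠ P ∧ P ⊔ Q = ⊤ from key _ G P le_rfl h
  intro n
  induction n with
  | zero =>
    intro G _ _ P hn _
    have : 0 < Nat.card G := Nat.card_pos
    omega
  | succ n ih =>
    intro G _ _ P hn h
    by_cases hZ : center G = ⊥
    · haveI : Nontrivial G := by
        refine Finite.one_lt_card_iff_nontrivial.1 (lt_of_lt_of_le (by norm_num : 1 < 11) ?_)
        rw [← h.card]
        exact card_le_card_group P
      have hsimple : IsSimpleGroup G := ⟨fun N hN => by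
        haveI := hN
        by_cases hNt : N = ⊤
        · exact Or.inr hNt
        · exact Or.inl (eq_bot_iff.2 (hZ ▸ h.le_center_of_normal N hNt))⟩
      by_contra hc
      push Not at hc
      refine hno G P ⟨h, hsimple, fun Q hQ e => ?_, fun S hS hne A hA B hB hAB => ?_⟩
      · rcases eq_or_ne Q P with rfl | hQne
        · obtain ⟨R, hR, hRne⟩ := h.exists_other
          rw [sup_idem] at e
          subst e
          exact h.not_normal inferInstance
        · exact hc Q hQ hQne e
      · have hlt : Nat.card ↥(sSup S) < Nat.card G := by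
          refine lt_of_le_of_ne (card_le_card_group _) fun e => hne (eq_top_of_card_eq _ e)
        obtain ⟨W, ⟨y, rfl⟩, -, hW⟩ := ih ↥(sSup S) (A.subgroupOf (sSup S)) (by omega)
          (h.sub_setting hS hA hB hAB)
        have hAle : A ≤ sSup S := le_sSup hA
        refine ⟨A.map (MulAut.conj (y : G)).toMonoidHom, (hS A hA).conj y, ?_⟩
        have e := congrArg (map (sSup S).subtype) hW
        rw [Subgroup.map_sup, map_subgroupOf_eq_of_le hAle, ← MonoidHom.range_eq_map, range_subtype,
          map_map, show (sSup S).subtype.comp (MulAut.conj y).toMonoidHom =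
            (MulAut.conj (y : G)).toMonoidHom.comp (sSup S).subtype from MonoidHom.ext fun _ => rfl,
          ← map_map, map_subgroupOf_eq_of_le hAle] at e
        exact e.symm
    · have hlt : Nat.card (G ⧸ center G) < Nat.card G := by
        rw [card_eq_card_quotient_mul_card_subgroup (center G)]
        exact lt_mul_of_one_lt_right Nat.card_pos ((center G).one_lt_card_iff_ne_bot.2 hZ)
      obtain ⟨Q', ⟨g', rfl⟩, hne, htop⟩ := ih (G ⧸ center G) _ (by omega) h.quotient
      obtain ⟨g, rfl⟩ := QuotientGroup.mk'_surjective (center G) g'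
      set π := QuotientGroup.mk' (center G)
      have hmap : (P.map π).map (MulAut.conj (π g)).toMonoidHom = (P.map (MulAut.conj g).toMonoidHom).map π := by
        rw [map_map, map_map]
        congr 1
      rw [hmap, ← Subgroup.map_sup] at htop
      refine ⟨_, ⟨g, rfl⟩, fun e => hne (by rw [hmap, e]), ?_⟩
      rw [← top_le_iff, ← h.commutator_eq_top, _root_.commutator_def, commutator_le]
      intro a _ b _
      obtain ⟨x, hx, hxa⟩ : π a ∈ _ := htop ▸ mem_top (π a)
      obtain ⟨y, hy, hyb⟩ : π b ∈ _ := htop ▸ mem_top (π b)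
      have hz : x⁻¹ * a ∈ center G := QuotientGroup.eq.1 hxa
      have hw : y⁻¹ * b ∈ center G := QuotientGroup.eq.1 hyb
      have e : ⁅a, b⁆ = ⁅x, y⁆ := by
        have h1 : ∀ p q z : G, z ∈ center G → ⁅p * z, q⁆ = ⁅p, q⁆ := fun p q z hz => by
          rw [commutatorElement_def, commutatorElement_def]
          calc p * z * q * (p * z)⁻¹ * q⁻¹ = p * (z * q) * z⁻¹ * p⁻¹ * q⁻¹ := by group
            _ = p * (q * z) * z⁻¹ * p⁻¹ * q⁻¹ := by rw [mem_center_iff.1 hz q]
            _ = p * q * p⁻¹ * q⁻¹ := by group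
        calc ⁅a, b⁆ = ⁅x * (x⁻¹ * a), b⁆ := by rw [mul_inv_cancel_left]
          _ = ⁅x, b⁆ := h1 _ _ _ hz
          _ = ⁅b, x⁆⁻¹ := (commutatorElement_inv b x).symm
          _ = ⁅y * (y⁻¹ * b), x⁆⁻¹ := by rw [mul_inv_cancel_left]
          _ = ⁅y, x⁆⁻¹ := by rw [h1 _ _ _ hw]
          _ = ⁅x, y⁆ := commutatorElement_inv y x
      rw [e, commutatorElement_def]
      exact mul_mem (mul_mem (mul_mem hx hy) (inv_mem hx)) (inv_mem hy)

end Setting

end Cfsg.Agent.ElevenPairs
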